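import Groth.Agent.L20.Unir.SSPart
import Groth.Agent.L24.TorusField.KTangent
import Groth.Agent.L24.TorusField.Derivation
import Groth.Agent.L24.TorusField.AdConj
import Groth.Agent.L01.Unip.Conv

/-!
# The Lie algebra as a space of matrices
-/

set_option autoImplicit false
set_option backward.isDefEq.respectTransparency false
set_option backward.isDefEq.respectTransparency.types false
set_option linter.style.haveILetI false
set_option linter.unusedSectionVars false

universe u v

open WithConv TensorProduct

noncomputable section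

namespace Groth.L20.Dense

open Groth.L08 Groth.L08.AugGraded Groth.L24.TorusField

section mat

variable {R : Type u} [CommRing R] {σ : Type v} [Fintype σ] [DecidableEq σ]

/-- the commutator endomorphism -/
def adE (V : Matrix σ σ R) : Module.End R (Matrix σ σ R) := LinearMap.mulLeft R V - LinearMap.mulRight R V

theorem adE_apply (V X : Matrix σ σ R) : adE V X = V * X - X * V := rfl

theorem adE_pow_eq_adN (V : Matrix σ σ R) (N : ℕ) (X : Matrix σ σ R) : (adE V ^ N) X = adN N V X := by
  induction N with
  | zero => rfl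
  | succ N ih =>
    rw [pow_succ', Module.End.mul_apply, ih, adN, adN, Function.iterate_succ_apply']
    rfl

theorem adE_commute {V W : Matrix σ σ R} (h : Commute V W) : Commute (adE V) (adE W) := by
  refine LinearMap.ext fun X => ?_
  simp only [Module.End.mul_apply, adE_apply, mul_sub, sub_mul, ← mul_assoc, h.eq]
  rw [mul_assoc X W V, mul_assoc X V W, h.eq]
  abel

theorem adE_sub (V W : Matrix σ σ R) : adE (V - W) = adE V - adE W :=
  LinearMap.ext fun X => by simp only [LinearMap.sub_apply, adE_apply, sub_mul, mul_sub]; abel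

theorem adE_nilpotent {V : Matrix σ σ R} (h : IsNilpotent V) : IsNilpotent (adE V) :=
  (LinearMap.commute_mulLeft_right V V).isNilpotent_sub
    (by obtain ⟨n, hn⟩ := h; exact ⟨n, by rw [LinearMap.pow_mulLeft, hn, LinearMap.mulLeft_zero_eq_zero]⟩)
    (by obtain ⟨n, hn⟩ := h; exact ⟨n, by rw [LinearMap.pow_mulRight, hn, LinearMap.mulRight_zero_eq_zero]⟩)

theorem adE_map {R' : Type u} [CommRing R'] (f : R →+* R') (V X : Matrix σ σ R) :
    (adE V X).map f = adE (V.map f) (X.map f) := by
  rw [adE_apply, adE_apply, Matrix.map_sub _ (fun a b => map_sub f a b), Matrix.map_mul, Matrix.map_mul]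

theorem adE_conj {M N : Matrix σ σ R} (h : N * M = 1) (V X : Matrix σ σ R) :
    adE (M * V * N) (M * X * N) = M * adE V X * N := by
  have e : ∀ a b : Matrix σ σ R, (M * a * N) * (M * b * N) = M * (a * b) * N := fun a b => by
    rw [show (M * a * N) * (M * b * N) = M * a * (N * M) * b * N by simp only [mul_assoc], h, mul_one, mul_assoc M a b]
  rw [adE_apply, adE_apply, e, e, mul_sub, sub_mul]

theorem adE_pow_conj {M N : Matrix σ σ R} (h : N * M = 1) (V : Matrix σ σ R) (n : ℕ) (X : Matrix σ σ R) :
    (adE (M * V * N) ^ n) (M * X * N) = M * (adE V ^ n) X * N := by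
  induction n with
  | zero => rfl
  | succ n ih => rw [pow_succ', Module.End.mul_apply, ih, adE_conj h, pow_succ', Module.End.mul_apply]

end mat

section diag

variable {K : Type u} [Field K] {σ : Type v} [Fintype σ] [DecidableEq σ]

/-- a diagonalisable matrix -/
def DiagM (S : Matrix σ σ K) : Prop := ⨆ μ, Module.End.eigenspace (Matrix.toLin' S) μ = ⊤

theorem DiagM.map {K' : Type u} [Field K'] (f : K →+* K') {S : Matrix σ σ K} (h : DiagM S) : DiagM (S.map f) := by
  classical
  have key : ∀ x : σ → K, (fun i => f (x i)) ∈ ⨆ μ, Module.End.eigenspace (Matrix.toLin' (S.map f)) μ := by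
    intro x
    have hx : x ∈ ⨆ μ, Module.End.eigenspace (Matrix.toLin' S) μ := by rw [h]; trivial
    refine Submodule.iSup_induction _ (motive := fun x => (fun i => f (x i)) ∈ _) hx (fun μ y hy => ?_)
      (by convert Submodule.zero_mem (⨆ μ, Module.End.eigenspace (Matrix.toLin' (S.map f)) μ) using 1; funext i; simp)
      fun p q hp hq => by convert Submodule.add_mem _ hp hq using 1; funext i; simp
    refine Submodule.mem_iSup_of_mem (f μ) (Module.End.mem_eigenspace_iff.2 (funext fun i => ?_))
    have e := congrArg f (congrFun (Module.End.mem_eigenspace_iff.1 hy) i)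
    simpa [Matrix.mulVec, dotProduct, map_sum] using e
  rw [DiagM, eq_top_iff]
  intro y _
  rw [pi_eq_sum_univ' y]
  refine Submodule.sum_mem _ fun i _ => Submodule.smul_mem _ _ ?_
  convert key (Pi.single i 1) using 1
  funext j
  by_cases hj : j = i <;> simp [hj, Pi.single_apply]

theorem DiagM.conj {S M N : Matrix σ σ K} (h : DiagM S) (h1 : M * N = 1) (h2 : N * M = 1) : DiagM (M * S * N) := by
  rw [DiagM, eq_top_iff]
  intro y _
  have hy : N.mulVec y ∈ ⨆ μ, Module.End.eigenspace (Matrix.toLin' S) μ := by rw [h]; trivial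
  rw [show y = M.mulVec (N.mulVec y) by rw [Matrix.mulVec_mulVec, h1, Matrix.one_mulVec]]
  refine Submodule.iSup_induction _ (motive := fun x => M.mulVec x ∈ _) hy (fun μ z hz => ?_)
    (by rw [Matrix.mulVec_zero]; exact Submodule.zero_mem _)
    fun p q hp hq => by rw [Matrix.mulVec_add]; exact Submodule.add_mem _ hp hq
  refine Submodule.mem_iSup_of_mem μ (Module.End.mem_eigenspace_iff.2 ?_)
  have e := Module.End.mem_eigenspace_iff.1 hz
  rw [Matrix.toLin'_apply] at e ⊢
  rw [Matrix.mulVec_mulVec, mul_assoc, h2, mul_one, ← Matrix.mulVec_mulVec, e, Matrix.mulVec_smul]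

/-- a diagonalisable matrix commutes with what its commutator powers kill -/
theorem DiagM.adE_eq_zero {S X : Matrix σ σ K} (h : DiagM S) {N : ℕ} (hX : (adE S ^ N) X = 0) : adE S X = 0 :=
  sub_eq_zero.2 (commute_of_adN h (N := N) (by
    rw [← adE_pow_eq_adN, pow_succ', Module.End.mul_apply, hX, map_zero])).eq

theorem DiagM.maxGenEigenspace_eq {S : Matrix σ σ K} (h : DiagM S) :
    (adE S).maxGenEigenspace 0 = LinearMap.ker (adE S) := by
  ext X
  rw [Module.End.mem_maxGenEigenspace, LinearMap.mem_ker]
  simp only [zero_smul, sub_zero]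
  exact ⟨fun ⟨N, hN⟩ => h.adE_eq_zero hN, fun h0 => ⟨1, by rw [pow_one, h0]⟩⟩

end diag

section lie

variable {k : Type u} [Field k] {A : Type u} [CommRing A] [HopfAlgebra k A] {σ : Type v} [Fintype σ] [DecidableEq σ]
  (a : Matrix σ σ A)

/-- the tangent vectors -/
def tanSub (k A : Type u) [Field k] [CommRing A] [HopfAlgebra k A] : Submodule k (A →ₗ[k] k) where
  carrier := {w | IsTangent k A w}
  add_mem' {v w} hv hw p q := by
    simp only [LinearMap.add_apply, hv p q, hw p q]; ring
  zero_mem' p q := by simp
  smul_mem' c w hw p q := by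
    simp only [LinearMap.smul_apply, hw p q, smul_eq_mul]; ring

/-- the matrix of a functional, linearly -/
def matL : (A →ₗ[k] k) →ₗ[k] Matrix σ σ k where
  toFun := mat a
  map_add' φ ψ := by ext; simp [mat_apply]
  map_smul' c φ := by ext; simp [mat_apply]

/-- the Lie algebra in matrices -/
def lieSub : Submodule k (Matrix σ σ k) := (tanSub k A).map (matL a)

variable {a}

theorem mem_lieSub {X : Matrix σ σ k} : X ∈ lieSub (k := k) a ↔ ∃ w, IsTangent k A w ∧ mat a w = X := Iff.rfl

variable (h : Gens k a)
include h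

theorem tangent_ext {v w : A →ₗ[k] k} (hv : IsTangent k A v) (hw : IsTangent k A w) (e : mat a v = mat a w) :
    v = w := by
  refine LinearMap.ext fun x => ?_
  have hx : x ∈ Algebra.adjoin k (Set.range fun p : σ × σ => a p.1 p.2) := by rw [h.gen]; trivial
  induction hx using Algebra.adjoin_induction with
  | mem y hy => obtain ⟨⟨i, j⟩, rfl⟩ := hy; exact congrFun (congrFun e i) j
  | algebraMap c => rw [tangent_algebraMap hv, tangent_algebraMap hw]
  | add p q _ _ hp hq => rw [map_add, map_add, hp, hq]
  | mul p q _ _ hp hq => rw [hv, hw, hp, hq]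

theorem lieSub_bracket {X Y : Matrix σ σ k} (hX : X ∈ lieSub a) (hY : Y ∈ lieSub a) : adE X Y ∈ lieSub a := by
  obtain ⟨v, hv, rfl⟩ := hX
  obtain ⟨w, hw, rfl⟩ := hY
  refine ⟨_, Groth.L01.Unip.isTangent_bracket hv hw, ?_⟩
  show mat a ((toConv v * toConv w).ofConv - (toConv w * toConv v).ofConv) = _
  rw [show mat a ((toConv v * toConv w).ofConv - (toConv w * toConv v).ofConv) =
    mat a (toConv v * toConv w).ofConv - mat a (toConv w * toConv v).ofConv from map_sub (matL a) _ _,
    mat_mul h, mat_mul h]
  rfl

theorem ptMat_mul_inv (χ : WithConv (A →ₐ[k] k)) :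
    ptMat a χ.ofConv * ptMat a χ⁻¹.ofConv = 1 ∧ ptMat a χ⁻¹.ofConv * ptMat a χ.ofConv = 1 := by
  rw [← ptMat_mul h, ← ptMat_mul h, mul_inv_cancel, inv_mul_cancel]
  exact ⟨ptMat_one h, ptMat_one h⟩

theorem lieSub_conj (χ : WithConv (A →ₐ[k] k)) {X : Matrix σ σ k} (hX : X ∈ lieSub a) :
    ptMat a χ.ofConv * X * ptMat a χ⁻¹.ofConv ∈ lieSub a := by
  obtain ⟨w, hw, rfl⟩ := hX
  have hwK : IsKTangent (K := k) w := fun p q => by simpa using hw p q
  obtain ⟨hfst, hsnd⟩ := conj_pt (K := k) h (mul_inv_cancel χ) (toConv (dualPtK hwK)) fun x => fst_dualPtK hwK x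
  refine ⟨_, fun p q => by simpa using isKTangent_sndPart _ hfst p q, hsnd.trans ?_⟩
  congr 2
  ext i j
  exact snd_dualPtK hwK _

/-- a point whose matrix commutes with a tangent vector commutes with it -/
theorem lin_commute {χ : WithConv (A →ₐ[k] k)} {s : A →ₗ[k] k} (hs : IsTangent k A s)
    (hc : Commute (ptMat a χ.ofConv) (mat a s)) :
    Commute (toConv χ.ofConv.toLinearMap) (toConv s : WithConv (A →ₗ[k] k)) := by
  let D : WithConv (A →ₐ[k] DualNumber k) := toConv (dualPt hs)
  have he : inlPt χ * D = D * inlPt χ := by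
    refine WithConv.ofConv_injective (algHom_ext_gens h fun i j => ?_)
    show (inlPt χ * D).ofConv (a i j) = (D * inlPt χ).ofConv (a i j)
    rw [AlgHom.convMul_apply, AlgHom.convMul_apply, h.comul]
    simp only [map_sum, Algebra.TensorProduct.lift_tmul]
    refine TrivSqZeroExt.ext ?_ ?_
    · have h1 : ∀ p, (D.ofConv p).fst = Coalgebra.counit (R := k) p := fst_dualPt hs
      simp [TrivSqZeroExt.fst_sum, h1, h.counit, Matrix.one_apply, TrivSqZeroExt.algebraMap_eq_inl']
    · have e := congrFun (congrFun hc.eq i) j
      simp only [Matrix.mul_apply, ptMat, Matrix.map_apply, mat_apply] at e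
      simp [D, TrivSqZeroExt.snd_sum, DualNumber.snd_mul, snd_dualPt, fst_dualPt,
        TrivSqZeroExt.algebraMap_eq_inl']
      exact e
  refine WithConv.ofConv_injective (LinearMap.ext fun x => ?_)
  have e2 := congrArg (fun f : WithConv (A →ₐ[k] DualNumber k) => (f.ofConv x).snd) he
  simp only [AlgHom.convMul_apply] at e2
  show (toConv χ.ofConv.toLinearMap * toConv s) x = (toConv s * toConv χ.ofConv.toLinearMap) x
  rw [LinearMap.convMul_apply, LinearMap.convMul_apply]
  have key : ∀ z : A ⊗[k] A,
      (Algebra.TensorProduct.lift (inlPt χ).ofConv D.ofConv (fun _ _ => Commute.all _ _) z).snd =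
        LinearMap.mul' k k (TensorProduct.map χ.ofConv.toLinearMap s z) ∧
      (Algebra.TensorProduct.lift D.ofConv (inlPt χ).ofConv (fun _ _ => Commute.all _ _) z).snd =
        LinearMap.mul' k k (TensorProduct.map s χ.ofConv.toLinearMap z) := by
    intro z
    induction z using TensorProduct.induction_on with
    | zero => simp
    | add p q hp hq => simp only [map_add, TrivSqZeroExt.snd_add, hp.1, hp.2, hq.1, hq.2, and_self]
    | tmul p q =>
      simp [D, DualNumber.snd_mul, snd_dualPt, fst_dualPt, TrivSqZeroExt.algebraMap_eq_inl']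
  exact ((key _).1).symm.trans (e2.trans (key _).2)

omit h

/-- **semisimple parts see the generalised kernel** -/
theorem exists_ss_ker [Algebra.FiniteType k A] (d : GenData k A) {v : A →ₗ[k] k} (hv : IsTangent k A v) :
    ∃ s : A →ₗ[k] k, IsTangent k A s ∧ IsDiagTangent s ∧
      DiagM ((mat d.a s).map (algebraMap k (AlgebraicClosure k))) ∧
      toConv v * toConv s = toConv s * toConv v ∧
      ∀ (K : Type u) [Field K] [Algebra k K], DiagM ((mat d.a s).map (algebraMap k K)) →
        (adE ((mat d.a v).map (algebraMap k K))).maxGenEigenspace 0 =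
          LinearMap.ker (adE ((mat d.a s).map (algebraMap k K))) := by
  obtain ⟨s, hs, hd, hD, hc, -, hrel⟩ := Groth.L20.Unirat.exists_ss_comm' d hv
  refine ⟨s, hs, hd, hD, hc, fun K _ _ hDK => ?_⟩
  set V := (mat d.a v).map (algebraMap k K)
  set S := (mat d.a s).map (algebraMap k K)
  ext X
  rw [Module.End.mem_maxGenEigenspace, LinearMap.mem_ker]
  simp only [zero_smul, sub_zero]
  have hVS : Commute V S := by
    have e : mat d.a v * mat d.a s = mat d.a s * mat d.a v := by rw [← mat_mul d.gens, hc, mat_mul d.gens]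
    exact (Commute.map (show Commute (mat d.a v) (mat d.a s) from e) (algebraMap k K).mapMatrix)
  rcases hrel with hnil | ⟨q, e, hq, hchar, hpow⟩
  · have hn : IsNilpotent (adE (V - S)) := adE_nilpotent (by
      have := hnil.map (algebraMap k K).mapMatrix
      rwa [map_sub] at this)
    have hcc : Commute (adE V) (adE (V - S)) := adE_commute ((Commute.refl V).sub_right hVS)
    constructor
    · rintro ⟨N, hN⟩
      obtain ⟨m, hm⟩ := hn.neg
      refine hDK.adE_eq_zero (N := N + m) ?_
      rw [show adE S = adE V + (-adE (V - S)) by rw [adE_sub]; abel,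
        (hcc.neg_right).add_pow, LinearMap.sum_apply]
      refine Finset.sum_eq_zero fun i _ => ?_
      rcases le_or_gt N i with hi | hi
      · rw [((hcc.neg_right).pow_pow i _).eq, ← Nat.cast_comm, Module.End.mul_apply, Module.End.mul_apply,
          ← Nat.sub_add_cancel hi, pow_add, Module.End.mul_apply, hN, map_zero, map_zero, map_zero]
      · rw [show (-adE (V - S)) ^ (N + m - i) = 0 by
          rw [show N + m - i = m + (N - i) by omega, pow_add, hm, zero_mul],
          mul_zero, zero_mul, LinearMap.zero_apply]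
    · intro h0
      obtain ⟨m, hm⟩ := hn
      refine ⟨m, ?_⟩
      have key : ∀ j, (adE V ^ j) X = (adE (V - S) ^ j) X := by
        intro j
        induction j with
        | zero => rfl
        | succ j ih =>
          rw [pow_succ, pow_succ, Module.End.mul_apply, Module.End.mul_apply,
            show adE V X = adE (V - S) X by rw [adE_sub, LinearMap.sub_apply, h0, sub_zero]]
          have := LinearMap.congr_fun ((hcc.pow_left j).eq) X
          simp only [Module.End.mul_apply] at this
          rw [this, ih, ← Module.End.mul_apply, ← pow_succ', pow_succ, Module.End.mul_apply]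
      rw [key, hm, LinearMap.zero_apply]
  · haveI : CharP K q := charP_of_injective_algebraMap (algebraMap k K).injective q
    haveI : Fact q.Prime := ⟨hq⟩
    have hS : adE S = adE V ^ q ^ e := by
      show adE S = (LinearMap.mulLeft K V - LinearMap.mulRight K V) ^ q ^ e
      rcases subsingleton_or_nontrivial (Module.End K (Matrix d.ι d.ι K)) with hsub | hne'
      · exact Subsingleton.elim _ _
      haveI : CharP (Module.End K (Matrix d.ι d.ι K)) q :=
        charP_of_injective_algebraMap (algebraMap K (Module.End K (Matrix d.ι d.ι K))).injective q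
      rw [sub_pow_char_pow_of_commute q e (LinearMap.commute_mulLeft_right V V), LinearMap.pow_mulLeft,
        LinearMap.pow_mulRight, show S = V ^ q ^ e from (congrArg (fun M => M.map (algebraMap k K)) hpow).trans
          (map_pow (algebraMap k K).mapMatrix (mat d.a v) (q ^ e))]
      rfl
    constructor
    · rintro ⟨N, hN⟩
      refine hDK.adE_eq_zero (N := N) ?_
      rw [hS, ← pow_mul, ← Nat.sub_add_cancel (Nat.le_mul_of_pos_left N (pow_pos hq.pos e)), pow_add,
        Module.End.mul_apply, hN, map_zero]
    · intro h0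
      exact ⟨q ^ e, by rw [← hS]; exact h0⟩

end lie

end Groth.L20.Dense
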