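import Groth.Agent.L20.Dense.Points
import Groth.Agent.L20.Dense.MatLie
import Groth.Agent.L24.TorusField.RegularLin

/-!
# Base change to an algebraically closed field: points, tori, Lie algebras
-/

set_option autoImplicit false
set_option backward.isDefEq.respectTransparency false
set_option backward.isDefEq.respectTransparency.types false
set_option linter.style.haveILetI false
set_option linter.unusedSectionVars false

universe u v

open CategoryTheory CategoryTheory.Limits MonoidalCategory CartesianMonoidalCategory MonObj AlgebraicGeometry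
open TensorProduct WithConv
open Groth.L25.Bridge (P)
open Groth.L08.TorusQuot (sp sp_left toPt toPt_pre SP pre Pt ofPt)

noncomputable section

namespace Groth.L20.Dense

open Groth.L08 Groth.L08.AugGraded Groth.L24.TorusField Groth.L20.Unirat

variable {k : Type u} [Field k] {A B : Type u} [CommRing A] [HopfAlgebra k A] [CommRing B] [HopfAlgebra k B]
  (K : Type u) [Field K] [Algebra k K]

local notation "θ" => Spec.map (CommRingCat.ofHom (algebraMap k K))

/-- the base change of a bialgebra map -/
def mapK (π : A →ₐc[k] B) : K ⊗[k] A →ₐc[K] K ⊗[k] B :=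
  Bialgebra.TensorProduct.map (BialgHom.id K K) π

theorem mapK_tmul (π : A →ₐc[k] B) (c : K) (a : A) : mapK K π (c ⊗ₜ[k] a) = c ⊗ₜ[k] π a := rfl

/-- base change of Hopf spectra is natural -/
theorem bcP_natural (π : A →ₐc[k] B) :
    (Over.pullback θ).map (sp π) ≫ (bcP k A K).hom = (bcP k B K).hom ≫ sp (mapK K π) := by
  refine Over.OverMorphism.ext ((cancel_mono (pullbackSpecIso k K A).inv).1 (pullback.hom_ext ?_ ?_))
  · simp only [Category.assoc, pullbackSpecIso_inv_fst]
    show (pullback.lift _ _ _ ≫ (pullbackSymmetry _ _).hom ≫ (pullbackSpecIso k K A).hom) ≫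
        Spec.map (CommRingCat.ofHom (Algebra.TensorProduct.includeLeftRingHom : K →+* K ⊗[k] A)) =
      (((pullbackSymmetry _ _).hom ≫ (pullbackSpecIso k K B).hom) ≫
        Spec.map (CommRingCat.ofHom (mapK K π : K ⊗[k] A →+* K ⊗[k] B))) ≫
        Spec.map (CommRingCat.ofHom (Algebra.TensorProduct.includeLeftRingHom : K →+* K ⊗[k] A))
    simp only [Category.assoc]
    rw [pullbackSpecIso_hom_fst, ← Spec.map_comp]
    have e : CommRingCat.ofHom (Algebra.TensorProduct.includeLeftRingHom : K →+* K ⊗[k] A) ≫
        CommRingCat.ofHom (mapK K π : K ⊗[k] A →+* K ⊗[k] B) =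
        CommRingCat.ofHom (Algebra.TensorProduct.includeLeftRingHom : K →+* K ⊗[k] B) :=
      CommRingCat.hom_ext (RingHom.ext fun c => by
        show mapK K π (c ⊗ₜ[k] (1 : A)) = c ⊗ₜ[k] (1 : B)
        rw [mapK_tmul, map_one])
    rw [e, pullbackSpecIso_hom_fst, pullbackSymmetry_hom_comp_fst, pullbackSymmetry_hom_comp_fst]
    exact pullback.lift_snd _ _ _
  · simp only [Category.assoc, pullbackSpecIso_inv_snd]
    show (pullback.lift _ _ _ ≫ (pullbackSymmetry _ _).hom ≫ (pullbackSpecIso k K A).hom) ≫
        Spec.map (CommRingCat.ofHom (Algebra.TensorProduct.includeRight : A →ₐ[k] K ⊗[k] A).toRingHom) =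
      (((pullbackSymmetry _ _).hom ≫ (pullbackSpecIso k K B).hom) ≫
        Spec.map (CommRingCat.ofHom (mapK K π : K ⊗[k] A →+* K ⊗[k] B))) ≫
        Spec.map (CommRingCat.ofHom (Algebra.TensorProduct.includeRight : A →ₐ[k] K ⊗[k] A).toRingHom)
    simp only [Category.assoc]
    have hA : (pullbackSpecIso k K A).hom ≫
        Spec.map (CommRingCat.ofHom (Algebra.TensorProduct.includeRight : A →ₐ[k] K ⊗[k] A).toRingHom) =
        pullback.snd _ _ := pullbackSpecIso_hom_snd k K A
    have hB : (pullbackSpecIso k K B).hom ≫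
        Spec.map (CommRingCat.ofHom (Algebra.TensorProduct.includeRight : B →ₐ[k] K ⊗[k] B).toRingHom) =
        pullback.snd _ _ := pullbackSpecIso_hom_snd k K B
    have e : CommRingCat.ofHom (Algebra.TensorProduct.includeRight : A →ₐ[k] K ⊗[k] A).toRingHom ≫
        CommRingCat.ofHom (mapK K π : K ⊗[k] A →+* K ⊗[k] B) =
        CommRingCat.ofHom (π : A →+* B) ≫
          CommRingCat.ofHom (Algebra.TensorProduct.includeRight : B →ₐ[k] K ⊗[k] B).toRingHom :=
      CommRingCat.hom_ext (RingHom.ext fun a => mapK_tmul K π 1 a)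
    rw [hA, ← Spec.map_comp, e, Spec.map_comp, reassoc_of% hB, pullbackSymmetry_hom_comp_snd,
      pullbackSymmetry_hom_comp_snd_assoc]
    exact pullback.lift_fst _ _ _

theorem bT_comp {T : Over (Spec (CommRingCat.of k))} (i : T ⟶ P k B) (π : A →ₐc[k] B) :
    bT (K := K) (i ≫ sp π) = bT i ≫ sp (mapK K π) := by
  rw [bT, bT, Functor.map_comp, Category.assoc, bcP_natural, Category.assoc]

theorem bT_precomp {T T' : Over (Spec (CommRingCat.of k))} (v : T' ⟶ T) (i : T ⟶ P k A) :
    bT (K := K) (v ≫ i) = (Over.pullback θ).map v ≫ bT i := by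
  rw [bT, bT, Functor.map_comp, Category.assoc]

/-- tangent vectors extend -/
theorem isTangent_extK {w : A →ₗ[k] k} (hw : IsTangent k A w) :
    IsTangent K (K ⊗[k] A) (Groth.L24.TorusField.extK K w) := by
  intro x y
  induction x using TensorProduct.induction_on with
  | zero => simp
  | add p q hp hq => simp only [add_mul, map_add, hp, hq]; ring
  | tmul c p =>
    induction y using TensorProduct.induction_on with
    | zero => simp
    | add p' q' hp hq => simp only [mul_add, map_add, hp, hq, add_mul]; ring
    | tmul c' q =>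
      have e : w (p * q) = Coalgebra.counit (R := k) p * w q + Coalgebra.counit (R := k) q * w p := hw p q
      simp only [Algebra.TensorProduct.tmul_mul_tmul, Groth.L24.TorusField.extK_tmul, e,
        Bialgebra.counitAlgHom_apply, TensorProduct.counit_tmul, CommSemiring.counit_apply, smul_eq_mul,
        Algebra.smul_def, map_add, map_mul]
      ring

variable {σ : Type v} [Fintype σ] [DecidableEq σ]

/-- generators pass to quotients -/
theorem gens_map {a : Matrix σ σ A} (h : Gens k a) (φ : A →ₐc[k] B) (hφ : Function.Surjective φ) :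
    Gens k (a.map φ) where
  comul i j := by
    rw [Matrix.map_apply, ← CoalgHomClass.map_comp_comul_apply φ, h.comul, map_sum]
    rfl
  counit i j := by rw [Matrix.map_apply, CoalgHomClass.counit_comp_apply, h.counit]
  gen := by
    rw [eq_top_iff]
    rintro z -
    obtain ⟨x, rfl⟩ := hφ z
    have hx : x ∈ Algebra.adjoin k (Set.range fun p : σ × σ => a p.1 p.2) := by rw [h.gen]; trivial
    have hmem : (φ : A →ₐ[k] B) x ∈ (Algebra.adjoin k (Set.range fun p : σ × σ => a p.1 p.2)).map (φ : A →ₐ[k] B) :=
      ⟨x, hx, rfl⟩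
    rw [AlgHom.map_adjoin, ← Set.range_comp] at hmem
    exact hmem

/-- the Lie algebra over the extension is spanned by rational tangent vectors -/
theorem lieSub_span {a : Matrix σ σ A} {n : ℕ} (B0 : Fin n → Matrix σ σ k)
    (hB0 : ∀ X ∈ lieSub (k := k) a, ∃ c : Fin n → k, ∑ j, c j • B0 j = X) :
    ∀ X ∈ lieSub (k := K) (bcMat (k := k) K a), ∃ c : Fin n → K, ∑ j, c j • (B0 j).map (algebraMap k K) = X := by
  intro X hX
  obtain ⟨w, hw, rfl⟩ := mem_lieSub.1 hX
  obtain ⟨S, f, hf, e⟩ := exists_decomp K a w
  have hmem : mat (bcMat K a) w ∈ Submodule.span K (Set.range fun j => (B0 j).map (algebraMap k K)) := by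
    rw [e]
    refine Submodule.sum_mem _ fun l _ => Submodule.smul_mem _ _ ?_
    obtain ⟨c, hc⟩ := hB0 (mat a (f l)) ⟨f l, hf hw l, rfl⟩
    rw [← hc, show (∑ j, c j • B0 j).map (algebraMap k K) = ∑ j, algebraMap k K (c j) • (B0 j).map (algebraMap k K) by
      ext p q; simp only [Matrix.map_apply, Matrix.sum_apply, map_sum, Matrix.smul_apply, smul_eq_mul, map_mul]]
    exact Submodule.sum_mem _ fun j _ => Submodule.smul_mem _ _ (Submodule.subset_span ⟨j, rfl⟩)
  obtain ⟨c, hc⟩ := (Submodule.mem_span_range_iff_exists_fun K).1 hmem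
  exact ⟨c, hc⟩

/-- a rational tangent vector in the extended Lie algebra -/
theorem map_mem_lieSub (a : Matrix σ σ A) {w : A →ₗ[k] k} (hw : IsTangent k A w) :
    (mat a w).map (algebraMap k K) ∈ lieSub (k := K) (bcMat (k := k) K a) :=
  ⟨_, isTangent_extK K hw, mat_extK K a w⟩

variable {K}

/-- diagonalisable translations have diagonalisable matrices -/
theorem diagM_of_isDiagTangent {a : Matrix σ σ A} (h : Gens k a) {s : A →ₗ[k] k} (hd : IsDiagTangent s) :
    DiagM ((mat a s).map (algebraMap k (AlgebraicClosure k))) := by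
  classical
  let L := AlgebraicClosure k
  let D : Module.End L (L ⊗[k] A) := (fAct A s).baseChange L
  let S : Matrix σ σ L := (mat a s).map (algebraMap k L)
  let φ : σ → ((σ → L) →ₗ[L] L ⊗[k] A) := fun i => Fintype.linearCombination L (fun j => bcMat L a i j)
  have e : ∀ i v, D (φ i v) = φ i (Matrix.toLin' S v) := by
    intro i v
    simp only [φ, Fintype.linearCombination_apply, map_sum, map_smul, Matrix.toLin'_apply, Matrix.mulVec,
      dotProduct, Finset.sum_smul]
    rw [Finset.sum_comm]
    refine Finset.sum_congr rfl fun l _ => ?_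
    simp only [D, S, bcMat, Matrix.map_apply, LinearMap.baseChange_tmul, fAct_gen h, tmul_sum, Finset.smul_sum,
      mat_apply]
    refine Finset.sum_congr rfl fun m _ => ?_
    rw [TensorProduct.tmul_smul, ← IsScalarTower.algebraMap_smul L (s (a m l)), smul_smul, mul_comm]
  have hφ : ∀ i v, Coalgebra.counit (R := L) (φ i v) = v i := by
    intro i v
    simp only [φ, Fintype.linearCombination_apply, map_sum, map_smul, (bcMat_gens L h).counit, Matrix.one_apply,
      smul_eq_mul, mul_ite, _root_.mul_one, mul_zero, Finset.sum_ite_eq, Finset.mem_univ, if_true]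
  rw [DiagM, eq_top_iff, ← Module.End.iSup_maxGenEigenspace_eq_top (Matrix.toLin' S)]
  refine iSup_le fun mu v hv => Submodule.mem_iSup_of_mem mu (Module.End.mem_eigenspace_iff.2 (funext fun i => ?_))
  obtain ⟨N, hN⟩ := (Module.End.mem_maxGenEigenspace _ _ _).1 hv
  have hpow : ∀ (n : ℕ) (x : σ → L), ((D - algebraMap L (Module.End L (L ⊗[k] A)) mu) ^ n) (φ i x) =
      φ i (((Matrix.toLin' S - mu • (1 : Module.End L (σ → L))) ^ n) x) := by
    intro n
    induction n with
    | zero => intro x; rfl
    | succ n ih =>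
      intro x
      rw [pow_succ, pow_succ, Module.End.mul_apply, Module.End.mul_apply, ← ih]
      congr 1
      rw [LinearMap.sub_apply, LinearMap.sub_apply, e, map_sub]
      simp
  have h1 : D (φ i v) = mu • φ i v := eigen_of_pow hd mu N _ (by
    rw [hpow, pow_succ', Module.End.mul_apply, hN, map_zero, map_zero])
  have h2 := congrArg (Coalgebra.counit (R := L)) h1
  rw [e, hφ, map_smul, hφ] at h2
  exact h2

end Groth.L20.Dense
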