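import Groth.Agent.L20.Dense.Main
import Groth.Agent.S3938
import Groth.Agent.S4118

/-!
# Cartan subgroups meet every open set: the affine case
-/

set_option autoImplicit false
set_option backward.isDefEq.respectTransparency false
set_option backward.isDefEq.respectTransparency.types false
set_option linter.style.haveILetI false
set_option linter.unusedSectionVars false

universe u

open CategoryTheory CategoryTheory.Limits MonoidalCategory CartesianMonoidalCategory MonObj AlgebraicGeometry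
open TensorProduct WithConv
open Groth.L25.Bridge (P)
open Groth.L08.TorusQuot (sp sp_left toPt toPt_pre SP pre post Pt ofPt toPt_ofPt ofPt_toPt)

noncomputable section

namespace Groth.L20.Dense

open Groth.L08 Groth.L24.TorusField Groth.L20.Unirat

/-- the prime of a rational point -/
theorem closedPoint_pt {K : Type u} [Field K] {H : Type u} [CommRing H] [HopfAlgebra K H]
    (x : 𝟙_ (Over (Spec (CommRingCat.of K))) ⟶ P K H) :
    (x.left (IsLocalRing.closedPoint K) : PrimeSpectrum H).asIdeal = RingHom.ker (pt x).ofConv := by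
  have e : x.left = Spec.map (CommRingCat.ofHom (pt x).ofConv.toRingHom) := by
    have h := congrArg (fun m => m.left) (toPt_pt x)
    simp only [Over.comp_left] at h
    exact ((Category.id_comp _).symm.trans h.symm :)
  rw [e]
  show Ideal.comap (pt x).ofConv.toRingHom (IsLocalRing.maximalIdeal K) = _
  ext r
  simp only [Ideal.mem_comap, IsLocalRing.mem_maximalIdeal, mem_nonunits_iff, RingHom.mem_ker]
  exact ⟨fun h => not_not.1 fun hne => h (isUnit_iff_ne_zero.2 hne), fun h hu => hu.ne_zero h⟩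

/-- conjugating a fixed point, as a function -/
theorem exists_conj_fun {K : Type u} [Field K] {H : Type u} [CommRing H] [HopfAlgebra K H] (c : Pt K H K) (f : H) :
    ∃ a : H, ∀ ψ : Pt K H K, ψ.ofConv a = (ψ * c * ψ⁻¹).ofConv f := by
  let id' : Pt K H H := toConv (AlgHom.id K H)
  refine ⟨(id' * post (Algebra.ofId K H) c * id'⁻¹).ofConv f, fun ψ => ?_⟩
  have e1 : post ψ.ofConv id' = ψ := rfl
  have e2 : post ψ.ofConv (post (Algebra.ofId K H) c) = c :=
    WithConv.ofConv_injective (AlgHom.ext fun x => ψ.ofConv.commutes _)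
  show (post ψ.ofConv (id' * post (Algebra.ofId K H) c * id'⁻¹)).ofConv f = _
  rw [map_mul, map_mul, map_inv, e1, e2]

variable {k : Type u} [Field k]

local notation "KK" => AlgebraicClosure k
local notation "θ" => Spec.map (CommRingCat.ofHom (algebraMap k (AlgebraicClosure k)))

/-- **Cartan subgroups of an affine group meet every basic open set** -/
theorem exists_cartan_meets_basic [Infinite k] (A : Type u) [CommRing A] [HopfAlgebra k A] [Algebra.FiniteType k A]
    [Smooth (P k A).hom] [ConnectedSpace (P k A).left] {f : A} (hf : f ≠ 0) :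
    ∃ (C : Over (Spec (CommRingCat.of k))) (_ : GrpObj C) (c : C ⟶ P k A), SGA3x.IsCartan c ∧
      ∃ p : PrimeSpectrum A, p ∈ Set.range c.left.base ∧ f ∉ p.asIdeal := by
  haveI : IsAffineHom (P k A).hom := inferInstance
  haveI := (smooth_connected_bcP k A KK).1
  haveI := (smooth_connected_bcP k A KK).2
  haveI : IsDomain (KK ⊗[k] A) := isDomain_bc k A KK
  let fK : KK ⊗[k] A := (1 : KK) ⊗ₜ[k] f
  have hfK : fK ≠ 0 := fun e => hf
    ((Algebra.TensorProduct.includeRight_injective (R := k) (A := KK) (B := A) (algebraMap k KK).injective)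
      (e.trans (map_zero _).symm))
  obtain ⟨T₀, gT₀, i₀, h₀⟩ := exists_maximalTorus_connected (P k A)
  obtain ⟨C₀, gC₀, c₀, hc₀, -, -, -⟩ := Groth.Agent.S4118.result _ (P k A) T₀ i₀ h₀
  have hcK : Red.IsCentralizerOf (bT (K := KK) i₀) (bT (K := KK) c₀) :=
    isCentralizerOf_of_iso (Groth.L08.Borel.isCentralizerOf_bc θ hc₀) (bcP k A KK)
  haveI := h₀.1; haveI := hc₀.1
  -- a generic conjugate of a point of the Cartan subgroup
  obtain ⟨U₀, ⟨u, hu⟩, hU₀⟩ := Groth.Agent.S3938.result KK (P KK (KK ⊗[k] A)) _ (bT (K := KK) i₀)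
    (isMaxTorus_of_isMaximalTorus_field (isMaximalTorus_bT (K := KK) h₀)) _ _ hcK
  obtain ⟨_, ⟨h, rfl⟩, huh, hsub⟩ :=
    PrimeSpectrum.isTopologicalBasis_basic_opens.exists_subset_of_mem_open hu U₀.isOpen
  have hh : h ≠ 0 := fun e => huh (e ▸ Ideal.zero_mem _)
  obtain ⟨ψ, hψ⟩ := exists_pt_ne_zero (K := KK) (mul_ne_zero hh hfK)
  rw [map_mul] at hψ
  obtain ⟨x, hx⟩ := pt_surjective (toConv ψ)
  obtain ⟨g₀, y₀, hy₀⟩ := hU₀ x (hsub (by
    show h ∉ (x.left (IsLocalRing.closedPoint KK) : PrimeSpectrum (KK ⊗[k] A)).asIdeal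
    rw [closedPoint_pt, RingHom.mem_ker, hx]
    exact left_ne_zero_of_mul hψ))
  obtain ⟨a, ha⟩ := exists_conj_fun (pt (y₀ ≫ bT (K := KK) c₀)) fK
  have ha0 : a ≠ 0 := fun e => right_ne_zero_of_mul hψ (by
    have := ha (pt g₀)
    rw [e, map_zero, ← pt_inv, ← pt_mul, ← pt_mul, hy₀, hx] at this
    exact this.symm)
  obtain ⟨n, -, hn⟩ := Groth.L08.GrpDim.exists_dim (G := P k A)
  obtain ⟨T, gT, i, g, hT, hga, hg⟩ := tdense n A hn.le T₀ i₀ h₀ a ha0
  obtain ⟨C, gC, c, hc, -, hC, -⟩ := Groth.Agent.S4118.result _ (P k A) T i hT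
  refine ⟨C, gC, c, hC, ?_⟩
  have hcK' : Red.IsCentralizerOf (bT (K := KK) i) (bT (K := KK) c) :=
    isCentralizerOf_of_iso (Groth.L08.Borel.isCentralizerOf_bc θ hc) (bcP k A KK)
  obtain ⟨z, hzdef⟩ : ∃ z, z = g * (y₀ ≫ bT (K := KK) c₀) * g⁻¹ := ⟨_, rfl⟩
  have hzf : (pt z).ofConv fK ≠ 0 := by
    rw [show pt z = pt g * pt (y₀ ≫ bT (K := KK) c₀) * (pt g)⁻¹ by rw [hzdef, pt_mul, pt_mul, pt_inv], ← ha]
    exact hga
  have hbT := isMaximalTorus_bT (K := KK) hT
  obtain ⟨-, b2, -, -, -⟩ := Groth.L08.Borel.torus_props hbT.2.2.1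
  haveI := b2
  haveI : IsReduced (Red.bc θ T).left := Groth.Agent.AV.isReduced_of_smooth_field (Red.bc θ T).hom
  haveI : IsSeparated (P KK (KK ⊗[k] A)).hom := Groth.L08.AbelianGrp.isSeparated _
  have hcomm : ∀ t : 𝟙_ (Over (Spec (CommRingCat.of KK))) ⟶ Red.bc θ T,
      z * (t ≫ bT (K := KK) i) = (t ≫ bT (K := KK) i) * z := fun t => by
    obtain ⟨r, hr⟩ := (hg.symm (t ≫ bT (K := KK) i)).1 ⟨t, rfl⟩
    have e := (hcK.2.2 _ (y₀ ≫ bT (K := KK) c₀)).1 ⟨y₀, rfl⟩ _ (𝟙 _) r
    rw [Category.id_comp, hr] at e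
    calc z * (t ≫ bT (K := KK) i)
        = g * ((y₀ ≫ bT (K := KK) c₀) * (g⁻¹ * (t ≫ bT (K := KK) i) * g⁻¹⁻¹)) * g⁻¹ := by rw [hzdef]; group
      _ = g * ((g⁻¹ * (t ≫ bT (K := KK) i) * g⁻¹⁻¹) * (y₀ ≫ bT (K := KK) c₀)) * g⁻¹ := by rw [e]
      _ = (t ≫ bT (K := KK) i) * z := by rw [hzdef]; group
  have key : (toUnit (Red.bc θ T) ≫ z) * bT (K := KK) i = bT (K := KK) i * (toUnit (Red.bc θ T) ≫ z) :=
    Groth.L08.Borel.hom_ext_pts _ _ fun t => by
      rw [MonObj.comp_mul, MonObj.comp_mul, ← Category.assoc, toUnit_unique (t ≫ toUnit _) (𝟙 _), Category.id_comp]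
      exact hcomm t
  obtain ⟨y, hy⟩ := (hcK'.2.2 _ z).2 fun W w t => by
    have e := congrArg (t ≫ ·) key
    simp only [MonObj.comp_mul, ← Category.assoc] at e
    rwa [toUnit_unique (t ≫ toUnit _) w] at e
  let pr : (P KK (KK ⊗[k] A)).left ⟶ (P k A).left :=
    Spec.map (CommRingCat.ofHom (Algebra.TensorProduct.includeRight : A →ₐ[k] KK ⊗[k] A).toRingHom)
  have hfac : z.left ≫ pr = (y.left ≫ pullback.fst C.hom θ) ≫ c.left := by
    rw [← hy, Over.comp_left, Category.assoc, Category.assoc]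
    congr 1
    show (pullback.lift _ _ _ ≫ (pullbackSymmetry _ _).hom ≫ (pullbackSpecIso k KK A).hom) ≫ pr = _
    simp only [Category.assoc]
    rw [show (pullbackSpecIso k KK A).hom ≫ pr = pullback.snd _ _ from pullbackSpecIso_hom_snd k KK A,
      pullbackSymmetry_hom_comp_snd, pullback.lift_fst]
  refine ⟨pr (z.left (IsLocalRing.closedPoint KK)), ?_, ?_⟩
  · refine ⟨(y.left ≫ pullback.fst C.hom θ) (IsLocalRing.closedPoint KK), ?_⟩
    show c.left ((y.left ≫ pullback.fst C.hom θ) (IsLocalRing.closedPoint KK)) = _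
    rw [← Scheme.Hom.comp_apply, ← hfac, Scheme.Hom.comp_apply]
  · show (1 : KK) ⊗ₜ[k] f ∉ (z.left (IsLocalRing.closedPoint KK) : PrimeSpectrum (KK ⊗[k] A)).asIdeal
    rw [closedPoint_pt]
    exact hzf

end Groth.L20.Dense
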