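import Groth.Agent.L20.Dense.MatLie
import Groth.Agent.L20.Unir.TangentCent
import Groth.Agent.L20.Unir.HopfData
import Groth.Agent.L08.Borel.Orbit

/-!
# The centraliser of a semisimple tangent vector, with its universal property
-/

set_option autoImplicit false
set_option backward.isDefEq.respectTransparency false
set_option backward.isDefEq.respectTransparency.types false
set_option linter.style.haveILetI false
set_option linter.unusedSectionVars false

universe u v

open CategoryTheory CategoryTheory.Limits MonoidalCategory CartesianMonoidalCategory MonObj AlgebraicGeometry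
open TensorProduct WithConv
open Groth.L25.Bridge (P)
open Groth.L08.TorusQuot (sp sp_left toPt toPt_pre SP pre)

noncomputable section

namespace Groth.L20.Dense

open Groth.L08 Groth.L08.AugGraded Groth.L24.TorusField Groth.L20.Unirat

variable {k : Type u} [Field k] {A : Type u} [CommRing A] [HopfAlgebra k A]

/-- a point with values in an algebra commutes with a tangent vector -/
def CommD {D : Type u} [CommRing D] [Algebra k D] (g : A →ₐ[k] D) (s : A →ₗ[k] k) : Prop :=
  Commute (toConv g.toLinearMap : WithConv (A →ₗ[k] D)) (toConv (Algebra.linearMap k D ∘ₗ s))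

theorem commD_of_commute {σ : Type v} [Fintype σ] [DecidableEq σ] {a : Matrix σ σ A} (h : Gens k a)
    {K : Type u} [Field K] [Algebra k K] (g : A →ₐ[k] K) {s : A →ₗ[k] k} (hs : IsTangent k A s)
    (hc : Commute (ptMat a g) ((mat a s).map (algebraMap k K))) : CommD g s := by
  have hsK := isKTangent_of_isTangent (K := K) hs
  let D : WithConv (A →ₐ[k] DualNumber K) := toConv (dualPtK hsK)
  have he : inlPt (toConv g) * D = D * inlPt (toConv g) := by
    refine WithConv.ofConv_injective (algHom_ext_gens h fun i j => ?_)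
    show (inlPt (toConv g) * D).ofConv (a i j) = (D * inlPt (toConv g)).ofConv (a i j)
    rw [AlgHom.convMul_apply, AlgHom.convMul_apply, h.comul]
    simp only [map_sum, Algebra.TensorProduct.lift_tmul]
    refine TrivSqZeroExt.ext ?_ ?_
    · simp [D, TrivSqZeroExt.fst_sum, fst_dualPtK, h.counit, Matrix.one_apply, TrivSqZeroExt.algebraMap_eq_inl',
        apply_ite (algebraMap k K)]
    · have e := congrFun (congrFun hc.eq i) j
      simp only [Matrix.mul_apply, ptMat, Matrix.map_apply, mat_apply] at e
      simp [D, TrivSqZeroExt.snd_sum, DualNumber.snd_mul, snd_dualPtK, fst_dualPtK,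
        TrivSqZeroExt.algebraMap_eq_inl']
      exact e
  refine WithConv.ofConv_injective (LinearMap.ext fun x => ?_)
  have e2 := congrArg (fun f : WithConv (A →ₐ[k] DualNumber K) => (f.ofConv x).snd) he
  simp only [AlgHom.convMul_apply] at e2
  show (toConv g.toLinearMap * toConv (Algebra.linearMap k K ∘ₗ s)) x =
    (toConv (Algebra.linearMap k K ∘ₗ s) * toConv g.toLinearMap) x
  rw [LinearMap.convMul_apply, LinearMap.convMul_apply]
  have key : ∀ z : A ⊗[k] A,
      (Algebra.TensorProduct.lift (inlPt (toConv g)).ofConv D.ofConv (fun _ _ => Commute.all _ _) z).snd =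
        LinearMap.mul' k K (TensorProduct.map g.toLinearMap (Algebra.linearMap k K ∘ₗ s) z) ∧
      (Algebra.TensorProduct.lift D.ofConv (inlPt (toConv g)).ofConv (fun _ _ => Commute.all _ _) z).snd =
        LinearMap.mul' k K (TensorProduct.map (Algebra.linearMap k K ∘ₗ s) g.toLinearMap z) := by
    intro z
    induction z using TensorProduct.induction_on with
    | zero => simp
    | add p q hp hq => simp only [map_add, TrivSqZeroExt.snd_add, hp.1, hp.2, hq.1, hq.2, and_self]
    | tmul p q =>
      simp [D, DualNumber.snd_mul, snd_dualPtK, fst_dualPtK, TrivSqZeroExt.algebraMap_eq_inl']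
  exact ((key _).1).symm.trans (e2.trans (key _).2)

theorem commD_dualPt {w s : A →ₗ[k] k} (hw : IsTangent k A w)
    (hc : toConv w * toConv s = toConv s * toConv w) : CommD (dualPt hw) s := by
  refine WithConv.ofConv_injective (LinearMap.ext fun x => ?_)
  show (toConv (dualPt hw).toLinearMap * toConv (Algebra.linearMap k (DualNumber k) ∘ₗ s)) x =
    (toConv (Algebra.linearMap k (DualNumber k) ∘ₗ s) * toConv (dualPt hw).toLinearMap) x
  rw [LinearMap.convMul_apply, LinearMap.convMul_apply]
  have key : ∀ z : A ⊗[k] A,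
      LinearMap.mul' k (DualNumber k) (TensorProduct.map (dualPt hw).toLinearMap
          (Algebra.linearMap k (DualNumber k) ∘ₗ s) z) =
        TrivSqZeroExt.inl (LinearMap.mul' k k (TensorProduct.map Coalgebra.counit s z)) +
          TrivSqZeroExt.inr (LinearMap.mul' k k (TensorProduct.map w s z)) ∧
      LinearMap.mul' k (DualNumber k) (TensorProduct.map (Algebra.linearMap k (DualNumber k) ∘ₗ s)
          (dualPt hw).toLinearMap z) =
        TrivSqZeroExt.inl (LinearMap.mul' k k (TensorProduct.map s Coalgebra.counit z)) +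
          TrivSqZeroExt.inr (LinearMap.mul' k k (TensorProduct.map s w z)) := by
    intro z
    induction z using TensorProduct.induction_on with
    | zero => simp
    | add p q hp hq =>
      refine ⟨?_, ?_⟩
      · simp only [map_add, hp.1, hq.1, TrivSqZeroExt.inl_add, TrivSqZeroExt.inr_add]; abel
      · simp only [map_add, hp.2, hq.2, TrivSqZeroExt.inl_add, TrivSqZeroExt.inr_add]; abel
    | tmul p q =>
      refine ⟨?_, ?_⟩ <;>
        refine TrivSqZeroExt.ext ?_ ?_ <;>
        simp [fst_dualPt, snd_dualPt, TrivSqZeroExt.algebraMap_eq_inl', DualNumber.snd_mul, mul_comm]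
  rw [(key _).1, (key _).2, ← LinearMap.convMul_apply (toConv w) (toConv s),
    ← LinearMap.convMul_apply (toConv s) (toConv w), hc,
    ← LinearMap.convMul_apply (toConv Coalgebra.counit) (toConv s),
    ← LinearMap.convMul_apply (toConv s) (toConv Coalgebra.counit),
    show (toConv (Coalgebra.counit : A →ₗ[k] k)) = 1 from WithConv.ofConv_injective (LinearMap.ext fun x => by simp),
    _root_.one_mul, _root_.mul_one]

variable [Algebra.FiniteType k A] [AlgebraicGeometry.Smooth (P k A).hom] [ConnectedSpace (P k A).left]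

/-- points commuting with a tangent vector centralise the subgroup it generates -/
theorem centralise_of_commD {s : A →ₗ[k] k} (hs : IsTangent k A s) {D : Type u} [CommRing D] [Algebra k D]
    (g : A →ₐ[k] D) (hc : CommD g s) (X' : Over (Spec (CommRingCat.of k))) (x : X' ⟶ SP k D)
    (h : X' ⟶ P k (A ⧸ J hs)) :
    (x ≫ toPt (toConv g)) * (h ≫ sp (Bialgebra.Quotient.mkBialgHom (R := k) (J hs))) =
      (h ≫ sp (Bialgebra.Quotient.mkBialgHom (R := k) (J hs))) * (x ≫ toPt (toConv g)) := by
  refine centralise_of_eq _ g (fun a => ?_) X' x h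
  let q := Bialgebra.Quotient.mkBialgHom (R := k) (J hs)
  let sb : ℕ → (A ⧸ J hs →ₗ[k] k) := fun i => ((J hs).restrictScalars k).liftQ (pw s i) fun p hp => by
    rw [LinearMap.mem_ker]; exact hp i
  rw [← sub_eq_zero]
  refine quot_ext hs sb (fun i a => rfl) fun i => ?_
  rw [map_sub, map_sub, sub_eq_zero]
  have e1 : ∀ v : A ⊗[k] A,
      TensorProduct.lid k D ((sb i).rTensor D (TensorProduct.map (q : A →ₗc[k] A ⧸ J hs).toLinearMap g.toLinearMap
        (TensorProduct.comm k A A v))) =
        LinearMap.mul' k D (TensorProduct.map g.toLinearMap (Algebra.linearMap k D ∘ₗ pw s i) v) ∧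
      TensorProduct.lid k D ((sb i).rTensor D (TensorProduct.map (q : A →ₗc[k] A ⧸ J hs).toLinearMap g.toLinearMap v)) =
        LinearMap.mul' k D (TensorProduct.map (Algebra.linearMap k D ∘ₗ pw s i) g.toLinearMap v) := by
    intro v
    induction v using TensorProduct.induction_on with
    | zero => simp
    | add p p' hp hp' => simp only [map_add, hp.1, hp'.1, hp.2, hp'.2, and_self]
    | tmul p p' =>
      refine ⟨?_, ?_⟩
      · show sb i (q p') • g p = g p * algebraMap k D (pw s i p')
        rw [show sb i (q p') = pw s i p' from rfl, Algebra.smul_def, mul_comm]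
      · show sb i (q p) • g p' = algebraMap k D (pw s i p) * g p'
        rw [show sb i (q p) = pw s i p from rfl, Algebra.smul_def]
  have hpw : ∀ j, (toConv (Algebra.linearMap k D ∘ₗ pw s j) : WithConv (A →ₗ[k] D)) =
      (toConv (Algebra.linearMap k D ∘ₗ s)) ^ j := by
    intro j
    induction j with
    | zero =>
      rw [pow_zero]
      exact WithConv.ofConv_injective (LinearMap.ext fun a => by simp [pw_zero])
    | succ j ih =>
      have e := congrArg WithConv.ofConv (pw_toConv s (j + 1))
      rw [pow_succ, ← ih]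
      refine WithConv.ofConv_injective ?_
      show Algebra.linearMap k D ∘ₗ pw s (j + 1) = _
      rw [show pw s (j + 1) = ((toConv s) ^ (j + 1)).ofConv from e, pow_succ, ← pw_toConv]
      exact congrArg WithConv.ofConv (WithConv.ofConv_injective
        (LinearMap.algHom_comp_convMul_distrib (Algebra.ofId k D) (toConv (pw s j)) (toConv s)))
  refine (e1 _).1.trans (Eq.trans ?_ (e1 _).2.symm)
  rw [← LinearMap.convMul_apply (toConv g.toLinearMap) (toConv (Algebra.linearMap k D ∘ₗ pw s i)),
    ← LinearMap.convMul_apply (toConv (Algebra.linearMap k D ∘ₗ pw s i)) (toConv g.toLinearMap), hpw,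
    ((show Commute (toConv g.toLinearMap) (toConv (Algebra.linearMap k D ∘ₗ s)) from hc).pow_right i).eq]

/-- **the centraliser of a semisimple tangent vector and its identity component** -/
theorem exists_centraliser {s : A →ₗ[k] k} (hs : IsTangent k A s) (hd : IsDiagTangent s) (hnc : ¬ Cent s) :
    ∃ (Z : Over (Spec (CommRingCat.of k))) (_ : GrpObj Z) (z : Z ⟶ P k A) (C : Over (Spec (CommRingCat.of k)))
      (_ : GrpObj C) (j : C ⟶ Z), IsMonHom z ∧ Mono z ∧ IsClosedImmersion z.left ∧ Groth.L08.Chev.IdCompData j ∧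
      IsAffine C.left ∧ AlgebraicGeometry.Smooth C.hom ∧ ConnectedSpace C.left ∧
      topologicalKrullDim C.left < topologicalKrullDim (P k A).left ∧
      (∀ (T : Over (Spec (CommRingCat.of k))) [GrpObj T] (i : T ⟶ C),
        Red.IsMaximalTorus i → Red.IsMaximalTorus (i ≫ j ≫ z)) ∧
      (∀ (D : Type u) [CommRing D] [Algebra k D] (g : A →ₐ[k] D), CommD g s →
        ∃ y : SP k D ⟶ Z, y ≫ z = toPt (toConv g)) ∧
      ∀ (B : Type u) [CommRing B] [HopfAlgebra k B] (e : C ≅ P k B) [IsMonHom e.hom] [IsMonHom e.inv]
        (φ : A →ₐc[k] B), sp φ = e.inv ≫ j ≫ z →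
        ∃ s' : B →ₗ[k] k, IsTangent k B s' ∧ Cent s' ∧ ∀ p, s' (φ p) = s p := by
  let q : A →ₐc[k] A ⧸ J hs := Bialgebra.Quotient.mkBialgHom (J hs)
  haveI : Algebra.FiniteType k (A ⧸ J hs) :=
    Algebra.FiniteType.of_surjective (Ideal.Quotient.mkₐ k (J hs)) Ideal.Quotient.mk_surjective
  have hH := Groth.L25.LargestMult.isMultTypeFT_of_const k (A ⧸ J hs) (isMultTypeConst_quotient hs hd)
  haveI : ConnectedSpace (P k (A ⧸ J hs)).left := by
    haveI := nontrivial_quotient hs
    haveI : Nonempty (PrimeSpectrum (A ⧸ J hs)) := inferInstance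
    haveI : PreconnectedSpace (PrimeSpectrum (A ⧸ J hs)) := by
      refine preconnectedSpace_iff_clopen.2 fun S hS => ?_
      obtain ⟨e, he, rfl⟩ := PrimeSpectrum.isClopen_iff.1 hS
      rcases eq_zero_or_one_of_idem hs he with rfl | rfl
      · left; simp
      · right; simp
    exact (⟨inferInstance⟩ : ConnectedSpace (PrimeSpectrum (A ⧸ J hs)))
  haveI : IsAffineHom (P k A).hom := inferInstance
  obtain ⟨Z, gZ, z, hZ, hzc, hZs⟩ := Groth.Agent.S5247.result (P k (A ⧸ J hs)) (P k A) hH inferInstance inferInstance (sp q)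
  haveI := hzc; haveI := hZs; haveI := hZ.1; haveI := hZ.2.1
  haveI : IsAffine Z.left := isAffine_of_isAffineHom z.left
  haveI : LocallyOfFiniteType Z.hom := inferInstance
  obtain ⟨C, gC, j, hj⟩ := Groth.L08.Chev.exists_idComp Z
  haveI := hj.hom; haveI := hj.closedImm; haveI := hj.openImm
  haveI hjz : IsClosedImmersion (j ≫ z).left := inferInstanceAs (IsClosedImmersion (j.left ≫ z.left))
  haveI : Mono (j ≫ z) := Over.mono_of_mono_left _
  obtain ⟨uZ, huZ⟩ := (hZ.2.2 (P k (A ⧸ J hs)) (sp q)).2 fun X' x h => by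
    rw [← MonObj.mul_comp, ← MonObj.mul_comp, Groth.L25.Central.mul_comm_of_multTypeFT hH]
  haveI : IsMonHom uZ := Groth.L08.Borel.isMonHom_of_comp_mono uZ z (sp q) huZ
  obtain ⟨uC, huC⟩ := hj.exists_lift_hom uZ
  haveI : Mono j := Over.mono_of_mono_left j
  haveI : IsMonHom uC := Groth.L08.Borel.isMonHom_of_comp_mono uC j uZ huC
  refine ⟨Z, gZ, z, C, gC, j, inferInstance, inferInstance, hzc, hj, hj.isAffine, hj.smooth, hj.connectedSpace, ?_,
    fun T _ i hT => isMaximalTorus_comp_centralizer hH hZ hj hT, fun D _ _ g hg => ?_, fun B _ _ e _ _ φ hφ => ?_⟩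
  · -- the centralizer is not the whole group
    have hne : ¬ Surjective (j ≫ z).left := by
      intro hsur
      haveI := hsur
      haveI : IsReduced (P k A).left := Groth.Agent.AV.isReduced_of_smooth_field (P k A).hom
      haveI : IsIso (j ≫ z).left := isIso_of_isClosedImmersion_of_surjective _
      haveI : IsIso ((Over.forget _).map (j ≫ z)) := ‹IsIso (j ≫ z).left›
      haveI : IsIso (j ≫ z) := isIso_of_reflects_iso _ (Over.forget _)
      have hcm : CentMap q := centMap_of_central q fun X x g => by
        have e := (hZ.2.2 X g).1 ⟨g ≫ inv (j ≫ z) ≫ j, by simp⟩ X (𝟙 X) x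
        rw [Category.id_comp] at e
        exact e.symm
      refine hnc fun φ => WithConv.ofConv_injective (LinearMap.ext fun x => ?_)
      let sb : A ⧸ J hs →ₗ[k] k := ((J hs).restrictScalars k).liftQ s fun a ha => by
        rw [LinearMap.mem_ker, ← pw_one s a]; exact ha 1
      have hsb : ∀ a, sb (q a) = s a := fun a => rfl
      have e := congrArg (fun w => TensorProduct.lid k k (TensorProduct.map sb φ w)) (hcm x)
      have e1 : ∀ w : A ⊗[k] A, TensorProduct.lid k k (TensorProduct.map sb φ
          (TensorProduct.map (q : A →ₗc[k] A ⧸ J hs).toLinearMap LinearMap.id w)) =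
          TensorProduct.lid k k (TensorProduct.map s φ w) := by
        intro w
        induction w with
        | zero => simp
        | add p p' hp hp' => simp only [map_add, hp, hp']
        | tmul p p' => simp [← hsb]
      simp only [e1] at e
      show (toConv s * toConv φ : WithConv (A →ₗ[k] k)) x = (toConv φ * toConv s : WithConv (A →ₗ[k] k)) x
      rw [LinearMap.convMul_apply, LinearMap.convMul_apply]
      have e2 : ∀ (f g : A →ₗ[k] k) (w : A ⊗[k] A), LinearMap.mul' k k (TensorProduct.map f g w) =
          TensorProduct.lid k k (TensorProduct.map f g w) ∧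
          TensorProduct.lid k k (TensorProduct.map f g (TensorProduct.comm k A A w)) =
            TensorProduct.lid k k (TensorProduct.map g f w) := by
        intro f g w
        induction w with
        | zero => simp
        | add p p' hp hp' => simp only [map_add, hp.1, hp'.1, hp.2, hp'.2, and_self]
        | tmul p p' => simp [mul_comm]
      rw [(e2 s φ _).1, e, (e2 φ s _).1, (e2 s φ _).2]
    haveI : LocallyOfFiniteType (P k A).hom := inferInstance
    haveI : IsLocallyNoetherian (P k A).left := LocallyOfFiniteType.isLocallyNoetherian (P k A).hom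
    have hirr : IrreducibleSpace (P k A).left := Groth.L25.Component.irreducibleSpace (P k A)
    obtain ⟨n, -, hn⟩ := Groth.L08.GrpDim.exists_dim (G := P k A)
    have hlt : topologicalKrullDim (Set.range (j ≫ z).left) < topologicalKrullDim (Set.univ : Set (P k A).left) := by
      refine Groth.Agent.S11667.dim_lt ((j ≫ z).left.isClosedEmbedding).isClosed_range
        (IrreducibleSpace.isIrreducible_univ _) (Set.subset_univ _) (fun h => hne ⟨fun x => h (Set.mem_univ x)⟩) ?_
      rw [(Homeomorph.Set.univ _).isHomeomorph.topologicalKrullDim_eq, hn]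
      exact WithBot.coe_lt_coe.2 (ENat.natCast_lt_top n)
    rw [(Homeomorph.Set.univ _).isHomeomorph.topologicalKrullDim_eq] at hlt
    rwa [((j ≫ z).left.isClosedEmbedding).isEmbedding.toHomeomorph.isHomeomorph.topologicalKrullDim_eq]
  · exact (hZ.2.2 (SP k D) (toPt (toConv g))).2 fun X' x h => centralise_of_commD hs g hg X' x h
  -- the lift of the tangent vector is central
  haveI : IsMonHom (uC ≫ e.hom) := inferInstance
  obtain ⟨ρ, hρ⟩ := Groth.L08.TorusQuot.exists_sp (uC ≫ e.hom)
  have hρφ : ∀ p, ρ (φ p) = q p := by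
    have e1 : sp ρ ≫ sp φ = sp q := by
      rw [hρ, hφ]; simp only [Category.assoc, Iso.hom_inv_id_assoc]; rw [reassoc_of% huC, huZ]
    intro p
    have e2 := congrArg (fun m => m.left) e1
    rw [Over.comp_left, sp_left, sp_left, sp_left, ← Spec.map_comp] at e2
    exact congr($(Spec.map_injective e2) p)
  have hcm : CentMap ρ := centMap_of_central ρ fun X x g => by
    haveI : Mono (e.inv ≫ j ≫ z) := mono_comp _ _
    rw [← cancel_mono (e.inv ≫ j ≫ z), MonObj.mul_comp, MonObj.mul_comp, Category.assoc, hρ]
    simp only [Category.assoc, Iso.hom_inv_id_assoc]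
    rw [reassoc_of% huC, huZ]
    have e3 := (hZ.2.2 X (g ≫ e.inv ≫ j ≫ z)).1 ⟨g ≫ e.inv ≫ j, by simp⟩ X (𝟙 X) x
    rw [Category.id_comp] at e3
    exact e3.symm
  let sb : A ⧸ J hs →ₗ[k] k := ((J hs).restrictScalars k).liftQ s fun a ha => by
    rw [LinearMap.mem_ker, ← pw_one s a]; exact ha 1
  refine ⟨sb ∘ₗ (ρ : B →ₗc[k] A ⧸ J hs).toLinearMap, ?_, ?_, fun p => ?_⟩
  · intro x y
    obtain ⟨x', hx'⟩ := Ideal.Quotient.mk_surjective (ρ x)
    obtain ⟨y', hy'⟩ := Ideal.Quotient.mk_surjective (ρ y)
    show sb (ρ (x * y)) = _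
    rw [map_mul, ← hx', ← hy', ← map_mul]
    show s (x' * y') = _
    rw [hs x' y']
    have hcq : ∀ b b', Ideal.Quotient.mk (J hs) b' = ρ b → Coalgebra.counit (R := k) b' = Coalgebra.counit (R := k) b := by
      intro b b' hb
      rw [← CoalgHomClass.counit_comp_apply ρ b, ← hb]
      exact (CoalgHomClass.counit_comp_apply q b').symm
    simp only [Bialgebra.counitAlgHom_apply, hcq x x' hx', hcq y y' hy', LinearMap.comp_apply]
    show _ = Coalgebra.counit (R := k) x * sb (ρ y) + Coalgebra.counit (R := k) y * sb (ρ x)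
    rw [← hx', ← hy']
    rfl
  · intro ψ
    refine WithConv.ofConv_injective (LinearMap.ext fun x => ?_)
    have ee := congrArg (fun w => TensorProduct.lid k k (TensorProduct.map sb ψ w)) (hcm x)
    simp only [← LinearMap.comp_apply (f := TensorProduct.map sb ψ), ← TensorProduct.map_comp, LinearMap.comp_id] at ee
    have e2 : ∀ (f g : B →ₗ[k] k) (w : B ⊗[k] B), LinearMap.mul' k k (TensorProduct.map f g w) =
        TensorProduct.lid k k (TensorProduct.map f g w) ∧
        TensorProduct.lid k k (TensorProduct.map f g (TensorProduct.comm k B B w)) =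
          TensorProduct.lid k k (TensorProduct.map g f w) := by
      intro f g w
      induction w with
      | zero => simp
      | add p p' hp hp' => simp only [map_add, hp.1, hp'.1, hp.2, hp'.2, and_self]
      | tmul p p' => simp [mul_comm]
    show (toConv (sb ∘ₗ (ρ : B →ₗc[k] A ⧸ J hs).toLinearMap) * toConv ψ : WithConv (B →ₗ[k] k)) x =
      (toConv ψ * toConv (sb ∘ₗ (ρ : B →ₗc[k] A ⧸ J hs).toLinearMap) : WithConv (B →ₗ[k] k)) x
    rw [LinearMap.convMul_apply, LinearMap.convMul_apply, (e2 _ _ _).1, (e2 _ _ _).1]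
    exact ee.trans (e2 _ _ _).2
  · show sb (ρ (φ p)) = s p
    rw [hρφ]
    rfl

/-- morphisms from connected reduced groups factor through identity components by their points -/
theorem factor_connected {K : Type u} [Field K] [IsAlgClosed K] {G Z C T : Over (Spec (CommRingCat.of K))}
    [GrpObj G] [GrpObj Z] [GrpObj C] [GrpObj T] (z : Z ⟶ G) [IsMonHom z] [IsClosedImmersion z.left] (j : C ⟶ Z)
    [IsMonHom j] [IsClosedImmersion j.left] [IsOpenImmersion j.left] [IsReduced T.left] [ConnectedSpace T.left]
    [LocallyOfFiniteType T.hom] (i : T ⟶ G) [IsMonHom i]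
    (hpts : ∀ t : 𝟙_ (Over (Spec (CommRingCat.of K))) ⟶ T, ∃ y, y ≫ z = t ≫ i) :
    ∃ t' : T ⟶ C, t' ≫ j ≫ z = i := by
  haveI : Mono z := Over.mono_of_mono_left z
  obtain ⟨τ, hτ⟩ := Groth.L08.Borel.factor_of_pts i z hpts
  haveI : IsMonHom τ := Groth.L08.Borel.isMonHom_of_comp_mono τ z i hτ
  let t₀ := η[T].left (IsLocalRing.closedPoint K)
  have hclo : IsClopen (Set.range j.left) := ⟨j.left.isClosedEmbedding.isClosed_range, j.left.isOpenEmbedding.isOpen_range⟩
  have h0 : τ.left t₀ ∈ Set.range j.left := by
    refine ⟨η[C].left (IsLocalRing.closedPoint K), ?_⟩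
    show j.left (η[C].left (IsLocalRing.closedPoint K)) = τ.left (η[T].left (IsLocalRing.closedPoint K))
    rw [← Scheme.Hom.comp_apply, ← Scheme.Hom.comp_apply, ← Over.comp_left, ← Over.comp_left,
      IsMonHom.one_hom (f := j), IsMonHom.one_hom (f := τ)]
  have hsub : Set.range τ.left ⊆ Set.range j.left :=
    (isPreconnected_range τ.left.continuous).subset_isClopen hclo ⟨_, ⟨t₀, rfl⟩, h0⟩
  refine ⟨Over.homMk (IsOpenImmersion.lift j.left τ.left hsub)
    (by rw [← Over.w j, IsOpenImmersion.lift_fac_assoc]; exact Over.w τ), ?_⟩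
  rw [← Category.assoc, show Over.homMk (IsOpenImmersion.lift j.left τ.left hsub) _ ≫ j = τ from
    Over.OverMorphism.ext (IsOpenImmersion.lift_fac _ _ _), hτ]

end Groth.L20.Dense
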