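import Groth.Agent.L20.Dense.Bc
import Groth.Agent.L20.Dense.Smaller

/-!
# Centralisers in the Lie algebra and in the group
-/

set_option autoImplicit false
set_option backward.isDefEq.respectTransparency false
set_option backward.isDefEq.respectTransparency.types false
set_option linter.style.haveILetI false
set_option linter.unusedSectionVars false

universe u v

open CategoryTheory CategoryTheory.Limits MonoidalCategory CartesianMonoidalCategory MonObj AlgebraicGeometry
open TensorProduct WithConv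
open Groth.L25.Bridge (P)
open Groth.L08.TorusQuot (sp sp_left toPt toPt_pre SP pre Pt ofPt toPt_ofPt ofPt_toPt)

noncomputable section

namespace Groth.L20.Dense

open Groth.L08 Groth.L08.AugGraded Groth.L24.TorusField Groth.L20.Unirat

variable {K : Type u} [Field K] {H : Type u} [CommRing H] [HopfAlgebra K H]

section linear

variable {σ : Type u} [Fintype σ] [DecidableEq σ] {b : Matrix σ σ H}

/-- the centraliser of a matrix in the Lie algebra -/
def cS (b : Matrix σ σ H) (S : Matrix σ σ K) : Submodule K (Matrix σ σ K) :=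
  lieSub b ⊓ LinearMap.ker (adE S)

theorem mem_cS {S X : Matrix σ σ K} : X ∈ cS b S ↔ X ∈ lieSub b ∧ adE S X = 0 := Iff.rfl

/-- conjugation of matrices -/
def conjL (M N : Matrix σ σ K) : Matrix σ σ K →ₗ[K] Matrix σ σ K :=
  LinearMap.mulRight K N ∘ₗ LinearMap.mulLeft K M

theorem conjL_apply (M N X : Matrix σ σ K) : conjL M N X = M * X * N := rfl

theorem conj_cancel {M N : Matrix σ σ K} (h : N * M = 1) (X : Matrix σ σ K) : N * (M * X * N) * M = X := by
  rw [← _root_.mul_assoc, ← _root_.mul_assoc, h, _root_.one_mul, _root_.mul_assoc, h, _root_.mul_one]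

theorem conjL_injective {M N : Matrix σ σ K} (h1 : M * N = 1) (h2 : N * M = 1) :
    Function.Injective (conjL M N) := fun X Y e => by
  have e' := congrArg (fun Z => N * Z * M) e
  simp only [conjL_apply] at e'
  rwa [conj_cancel h2, conj_cancel h2] at e'

theorem cS_conj (h : Gens K b) (χ : WithConv (H →ₐ[K] K)) (S : Matrix σ σ K) :
    cS b (ptMat b χ.ofConv * S * ptMat b χ⁻¹.ofConv) =
      (cS b S).map (conjL (ptMat b χ.ofConv) (ptMat b χ⁻¹.ofConv)) := by
  obtain ⟨h1, h2⟩ := ptMat_mul_inv h χ
  ext Y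
  constructor
  · rintro ⟨hY, hY0⟩
    refine ⟨ptMat b χ⁻¹.ofConv * Y * ptMat b χ.ofConv, ⟨?_, ?_⟩, ?_⟩
    · have := lieSub_conj h χ⁻¹ hY
      rwa [inv_inv] at this
    · show adE S _ = 0
      have e := adE_conj h1 (ptMat b χ.ofConv * S * ptMat b χ⁻¹.ofConv) Y
      rw [show ptMat b χ⁻¹.ofConv * (ptMat b χ.ofConv * S * ptMat b χ⁻¹.ofConv) * ptMat b χ.ofConv = S from conj_cancel h2 S,
        show adE (ptMat b χ.ofConv * S * ptMat b χ⁻¹.ofConv) Y = 0 from hY0, mul_zero, zero_mul] at e
      exact e
    · exact conj_cancel h1 Y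
  · rintro ⟨X, ⟨hX, hX0⟩, rfl⟩
    refine ⟨lieSub_conj h χ hX, ?_⟩
    show adE _ _ = 0
    rw [conjL_apply, adE_conj h2, show adE S X = 0 from hX0, mul_zero, zero_mul]

theorem finrank_cS_conj (h : Gens K b) (χ : WithConv (H →ₐ[K] K)) (S : Matrix σ σ K) :
    Module.finrank K (cS b (ptMat b χ.ofConv * S * ptMat b χ⁻¹.ofConv)) = Module.finrank K (cS b S) := by
  rw [cS_conj h]
  obtain ⟨h1, h2⟩ := ptMat_mul_inv h χ
  exact (Submodule.equivMapOfInjective _ (conjL_injective h1 h2) (cS b S)).finrank_eq.symm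

theorem commute_of_adE {S X : Matrix σ σ K} (h : adE S X = 0) : Commute S X := sub_eq_zero.1 h

theorem adE_eq_zero_of_commute {S X : Matrix σ σ K} (h : Commute S X) : adE S X = 0 := sub_eq_zero.2 h.eq

/-- tangent vectors with commuting matrices commute -/
theorem conv_commute (h : Gens K b) {v w : H →ₗ[K] K} (hv : IsTangent K H v) (hw : IsTangent K H w)
    (hc : Commute (mat b v) (mat b w)) : toConv v * toConv w = toConv w * toConv v := by
  have h0 : mat b (toConv v * toConv w - toConv w * toConv v).ofConv = mat b (0 : H →ₗ[K] K) := by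
    show mat b ((toConv v * toConv w).ofConv - (toConv w * toConv v).ofConv) = mat b (0 : H →ₗ[K] K)
    rw [show mat b ((toConv v * toConv w).ofConv - (toConv w * toConv v).ofConv) =
      mat b (toConv v * toConv w).ofConv - mat b (toConv w * toConv v).ofConv from map_sub (matL b) _ _,
      mat_mul h, mat_mul h, hc.eq, sub_self]
    rfl
  have e := tangent_ext h (Groth.L01.Unip.isTangent_bracket hv hw) (tanSub K H).zero_mem h0
  exact sub_eq_zero.1 (WithConv.ofConv_injective e)

/-- functionals through a quotient multiply in the quotient -/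
theorem commute_mat_of_cent {B : Type u} [CommRing B] [HopfAlgebra K B] (h : Gens K b) (φ : H →ₐc[K] B)
    {w : B →ₗ[K] K} (hc : Cent w) (ψ : B →ₗ[K] K) :
    Commute (mat b (w ∘ₗ (φ : H →ₗc[K] B).toLinearMap)) (mat b (ψ ∘ₗ (φ : H →ₗc[K] B).toLinearMap)) := by
  have e : ∀ f g : B →ₗ[K] K,
      mat b (toConv (f ∘ₗ (φ : H →ₗc[K] B).toLinearMap) * toConv (g ∘ₗ (φ : H →ₗc[K] B).toLinearMap)).ofConv =
        mat b ((toConv f * toConv g).ofConv ∘ₗ (φ : H →ₗc[K] B).toLinearMap) := fun f g => by
    rw [LinearMap.convMul_comp_coalgHom_distrib]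
  rw [Commute, SemiconjBy, ← mat_mul h, ← mat_mul h, e, e, hc ψ]

/-- commuting after conjugation -/
theorem commute_conj_of {M N X S : Matrix σ σ K} (h1 : M * N = 1) (h2 : N * M = 1)
    (hc : Commute (M * X * N) S) : Commute X (N * S * M) := by
  have e : N * (M * X * N * S) * M = N * (S * (M * X * N)) * M := by rw [hc.eq]
  show X * (N * S * M) = N * S * M * X
  calc X * (N * S * M) = N * (M * X * N * S) * M := by
        simp only [← _root_.mul_assoc, h2, _root_.one_mul]
    _ = N * (S * (M * X * N)) * M := e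
    _ = N * S * M * X := by
        simp only [_root_.mul_assoc, h2, _root_.mul_one]

end linear

/-- a point of an open subgroup with dual number values lifts -/
theorem exists_lift_dual {G Z C : Over (Spec (CommRingCat.of K))} [GrpObj G] [GrpObj Z] [GrpObj C] (z : Z ⟶ G)
    [IsMonHom z] [Mono z] (j : C ⟶ Z) [IsMonHom j] [IsOpenImmersion j.left]
    (y : SP K (DualNumber K) ⟶ Z)
    (hy : Over.homMk (Spec.map (CommRingCat.ofHom (TrivSqZeroExt.fstHom K K K).toRingHom)) (by
      show Spec.map _ ≫ Spec.map (CommRingCat.ofHom (algebraMap K (DualNumber K))) =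
        Spec.map (CommRingCat.ofHom (algebraMap K K))
      rw [← Spec.map_comp]
      exact congrArg Spec.map (CommRingCat.hom_ext (TrivSqZeroExt.fstHom K K K).comp_algebraMap)) ≫ y ≫ z =
        (1 : SP K K ⟶ G)) :
    ∃ y' : SP K (DualNumber K) ⟶ C, y' ≫ j = y := by
  obtain ⟨e0', he0⟩ : ∃ e : SP K K ⟶ SP K (DualNumber K), e ≫ y ≫ z = 1 := ⟨_, hy⟩
  have he' : e0' ≫ y = 1 := by rw [← cancel_mono z, Category.assoc, he0, MonObj.one_comp]
  have hsub : Set.range y.left ⊆ Set.range j.left := by
    rintro _ ⟨x, rfl⟩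
    let x0 : (SP K K).left := IsLocalRing.closedPoint K
    refine ⟨(1 : SP K K ⟶ C).left x0, ?_⟩
    rw [show x = e0'.left x0 from subsingleton_dual x _, ← Scheme.Hom.comp_apply, ← Scheme.Hom.comp_apply,
      ← Over.comp_left, ← Over.comp_left, MonObj.one_comp, he']
  refine ⟨Over.homMk (IsOpenImmersion.lift j.left y.left hsub) (by
    rw [← Over.w j, IsOpenImmersion.lift_fac_assoc]; exact Over.w y), ?_⟩
  exact Over.OverMorphism.ext (IsOpenImmersion.lift_fac _ _ _)

/-- the morphism of the counit of the dual numbers kills dual points -/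
theorem fst_toPt_dualPt {w : H →ₗ[K] K} (hw : IsTangent K H w)
    (p : SP K K ⟶ SP K (DualNumber K))
    (hp : p.left = Spec.map (CommRingCat.ofHom (TrivSqZeroExt.fstHom K K K).toRingHom)) :
    p ≫ toPt (toConv (dualPt hw)) = (1 : SP K K ⟶ P K H) := by
  rw [← map_one (Spec.mapMulEquiv (R := K) (S := H) (T := K))]
  refine Over.OverMorphism.ext ?_
  rw [Over.comp_left, hp]
  refine (Spec.map_comp _ _).symm.trans (congrArg Spec.map (CommRingCat.hom_ext ?_))
  ext a
  exact (fst_dualPt hw a).trans (by simp)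

/-- rational points from points with values in the field -/
theorem toPt_pt (x : 𝟙_ (Over (Spec (CommRingCat.of K))) ⟶ P K H) :
    toPt (toConv (pt x).ofConv) = e0 K ≫ x :=
  toPt_ofPt (e0 K ≫ x)

end Groth.L20.Dense
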