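import Groth.Agent.L20.Dense.Core

/-!
# Rational maximal tori are dense
-/

set_option autoImplicit false
set_option backward.isDefEq.respectTransparency false
set_option backward.isDefEq.respectTransparency.types false
set_option linter.style.haveILetI false
set_option linter.unusedSectionVars false

universe u

open CategoryTheory CategoryTheory.Limits MonoidalCategory CartesianMonoidalCategory MonObj AlgebraicGeometry
open TensorProduct WithConv
open Groth.L25.Bridge (P)
open Groth.L08.TorusQuot (sp sp_left toPt toPt_pre SP pre Pt ofPt toPt_ofPt ofPt_toPt)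
open Groth.L25.NilAction (ofBase)

noncomputable section

namespace Groth.L20.Dense

open Groth.L08 Groth.L08.AugGraded Groth.L24.TorusField Groth.L20.Unirat

/-- translating a function -/
theorem exists_translate {K : Type u} [Field K] {H B : Type u} [CommRing H] [HopfAlgebra K H] [CommRing B]
    [HopfAlgebra K B] (φ : H →ₐc[K] B) (n : Pt K H K) (a : H) :
    ∃ a' : B, ∀ ψ : Pt K B K, ψ.ofConv a' = (pre φ ψ * n).ofConv a := by
  let Λ : Pt K H B := toConv (φ : H →ₐ[K] B) * toConv ((Algebra.ofId K B).comp n.ofConv)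
  refine ⟨Λ.ofConv a, fun ψ => ?_⟩
  show (ψ.ofConv.comp Λ.ofConv) a = _
  rw [AlgHom.comp_convMul_distrib]
  have e : ψ.ofConv.comp ((Algebra.ofId K B).comp n.ofConv) = n.ofConv :=
    AlgHom.ext fun x => ψ.ofConv.commutes _
  show (toConv (ψ.ofConv.comp (φ : H →ₐ[K] B)) *
    toConv (ψ.ofConv.comp ((Algebra.ofId K B).comp n.ofConv))).ofConv a = _
  rw [e]
  rfl

variable {k : Type u} [Field k] {A : Type u} [CommRing A] [HopfAlgebra k A] [Algebra.FiniteType k A]
  [Smooth (P k A).hom] [ConnectedSpace (P k A).left]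

local notation "KK" => AlgebraicClosure k
local notation "θ" => Spec.map (CommRingCat.ofHom (algebraMap k (AlgebraicClosure k)))

/-- passing to the centraliser of a rational semisimple tangent vector -/
theorem tdense_descend (d : GenData k A)
    (ih : ∀ (B : Type u) [CommRing B] [HopfAlgebra k B] [Algebra.FiniteType k B] [Smooth (P k B).hom]
      [ConnectedSpace (P k B).left],
      topologicalKrullDim (P k B).left < topologicalKrullDim (P k A).left → TDense k B)
    {s : A →ₗ[k] k} (hs : IsTangent k A s) (hd : IsDiagTangent s) (hnc : ¬ Cent s)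
    {T₀ : Over (Spec (CommRingCat.of k))} [GrpObj T₀] {i₀ : T₀ ⟶ P k A} (h₀ : Red.IsMaximalTorus i₀)
    (g₀ : 𝟙_ (Over (Spec (CommRingCat.of KK))) ⟶ P KK (KK ⊗[k] A))
    (hcomm : ∀ x ∈ TorIm (bT (K := KK) i₀),
      Commute (ptMat (bcMat (k := k) KK d.a) (pt (g₀ * x * g₀⁻¹)).ofConv) ((mat d.a s).map (algebraMap k KK)))
    {a : KK ⊗[k] A} (ha : (pt g₀).ofConv a ≠ 0) :
    ∃ (T : Over (Spec (CommRingCat.of k))) (_ : GrpObj T) (i : T ⟶ P k A)
      (g : 𝟙_ (Over (Spec (CommRingCat.of KK))) ⟶ P KK (KK ⊗[k] A)),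
      Red.IsMaximalTorus i ∧ (pt g).ofConv a ≠ 0 ∧ Transp g (bT (K := KK) i₀) (bT (K := KK) i) := by
  haveI := (smooth_connected_bcP k A KK).1
  haveI := (smooth_connected_bcP k A KK).2
  obtain ⟨Z, gZ, z, C, gC, j, hzm, hzmono, hzc, hj, hCa, hCs, hCc, hlt, hmax, hlift, -⟩ :=
    exists_centraliser hs hd hnc
  haveI := hzm; haveI := hzmono; haveI := hzc; haveI := hCa; haveI := hCs; haveI := hCc
  haveI := hj.hom; haveI := hj.closedImm; haveI := hj.openImm
  -- the conjugate torus
  obtain ⟨i', hi'def⟩ : ∃ i', i' = (toUnit _ ≫ g₀) * bT (K := KK) i₀ * (toUnit _ ≫ g₀)⁻¹ := ⟨_, rfl⟩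
  have hi' : Red.IsMaximalTorus i' := hi'def ▸ Groth.L08.Borel.isMaximalTorus_conj (isMaximalTorus_bT (K := KK) h₀) g₀
  haveI := hi'.1
  obtain ⟨a1, a2, a3, -, -⟩ := Groth.L08.Borel.torus_props hi'.2.2.1
  haveI := a2; haveI := a3
  haveI : IsReduced (Red.bc θ T₀).left := Groth.Agent.AV.isReduced_of_smooth_field (Red.bc θ T₀).hom
  let zK : Red.bc θ Z ⟶ P KK (KK ⊗[k] A) := (Over.pullback θ).map z ≫ (bcP k A KK).hom
  let jK : Red.bc θ C ⟶ Red.bc θ Z := (Over.pullback θ).map j
  haveI : IsMonHom ((Over.pullback θ).map z) := Groth.L25.MonoClosed.isMonHom_pullbackMap _ _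
  haveI : IsMonHom jK := Groth.L25.MonoClosed.isMonHom_pullbackMap _ _
  haveI : IsMonHom zK := inferInstanceAs (IsMonHom (_ ≫ _))
  haveI : IsIso (bcP k A KK).hom.left := inferInstanceAs (IsIso ((Over.forget _).map (bcP k A KK).hom))
  haveI : IsClosedImmersion ((Over.pullback θ).map z).left :=
    MorphismProperty.of_isPullback (P := @IsClosedImmersion) (Groth.L25.SchImage.isPullback_fst_map θ z) hzc
  haveI : IsClosedImmersion zK.left := inferInstanceAs (IsClosedImmersion (_ ≫ _))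
  haveI : IsClosedImmersion jK.left :=
    MorphismProperty.of_isPullback (P := @IsClosedImmersion) (Groth.L25.SchImage.isPullback_fst_map θ j) hj.closedImm
  haveI : IsOpenImmersion jK.left :=
    MorphismProperty.of_isPullback (P := @IsOpenImmersion) (Groth.L25.SchImage.isPullback_fst_map θ j) hj.openImm
  obtain ⟨t, ht⟩ := factor_connected zK jK i' fun r => by
    have hx : r ≫ i' = g₀ * (r ≫ bT (K := KK) i₀) * g₀⁻¹ := by rw [hi'def, conjTorus_pt]
    obtain ⟨y, hy⟩ := hlift KK (res (pt (r ≫ i'))) (commD_of_commute d.gens _ hs (by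
      rw [hx]
      exact hcomm _ ⟨r, rfl⟩))
    refine ⟨ofBase θ (e1 k KK ≫ y), pt_injective ?_⟩
    rw [show ofBase θ (e1 k KK ≫ y) ≫ zK = (ofBase θ (e1 k KK ≫ y) ≫ (Over.pullback θ).map z) ≫ (bcP k A KK).hom
      from (Category.assoc _ _ _).symm]
    exact pt_ofBase z y _ hy
  -- the centraliser as a Hopf algebra
  obtain ⟨B, _, _, e, he, he', _, _, _⟩ := exists_hopfData C
  haveI := he; haveI := he'
  obtain ⟨φ, hφ⟩ := Groth.L08.TorusQuot.exists_sp (e.inv ≫ j ≫ z)
  haveI := (smooth_connected_bcP k B KK).1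
  haveI := (smooth_connected_bcP k B KK).2
  have hdim : topologicalKrullDim (P k B).left < topologicalKrullDim (P k A).left := by
    haveI : IsIso e.hom.left := inferInstanceAs (IsIso ((Over.forget _).map e.hom))
    rw [← e.hom.left.homeomorph.isHomeomorph.topologicalKrullDim_eq]
    exact hlt
  haveI : IsMonHom ((Over.pullback θ).map (sp φ)) := Groth.L25.MonoClosed.isMonHom_pullbackMap _ _
  haveI : Mono j := Over.mono_of_mono_left j
  haveI : Mono (sp φ) := by rw [hφ]; infer_instance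
  haveI : Mono (sp (mapK KK φ)) := by
    have hb := bcP_natural KK φ
    haveI : Mono ((Over.pullback θ).map (sp φ) ≫ (bcP k A KK).hom) := mono_comp _ _
    rw [hb] at *
    exact (MorphismProperty.cancel_left_of_respectsIso (MorphismProperty.monomorphisms _) (bcP k B KK).hom _).1
      (MorphismProperty.monomorphisms.infer_property _)
  let t' : Red.bc θ T₀ ⟶ P KK (KK ⊗[k] B) := t ≫ (Over.pullback θ).map e.hom ≫ (bcP k B KK).hom
  have ht' : t' ≫ sp (mapK KK φ) = i' := by
    show (t ≫ _ ≫ _) ≫ _ = _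
    rw [Category.assoc, Category.assoc, ← bcP_natural, ← Functor.map_comp_assoc, hφ, e.hom_inv_id_assoc,
      Functor.map_comp, Category.assoc]
    exact ht
  haveI : IsMonHom t' := Groth.L08.Borel.isMonHom_of_comp_mono t' (sp (mapK KK φ)) i' ht'
  haveI := hi'.2.1
  haveI : Mono t' := mono_of_mono_fac ht'
  have ht'max : Red.IsMaximalTorus t' := isMaximalTorus_of_comp t' (sp (mapK KK φ)) hi' ht'
  obtain ⟨T₁, gT₁, i₁, h₁⟩ := exists_maximalTorus_connected (P k B)
  obtain ⟨c, hc⟩ := exists_transp ht'max (isMaximalTorus_bT (K := KK) h₁)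
  obtain ⟨a', ha'⟩ := exists_translate (mapK KK φ) (pre (mapK KK φ) (pt c) * pt g₀) a
  have ha'0 : a' ≠ 0 := fun e0 => ha (by
    have := ha' (pt c)⁻¹
    rw [e0, map_zero, ← _root_.mul_assoc, map_inv, inv_mul_cancel, _root_.one_mul] at this
    exact this.symm)
  obtain ⟨T, gT, i, g, hT, hga, hg⟩ := ih B hdim T₁ i₁ h₁ a' ha'0
  haveI := hT.1
  have hiC : Red.IsMaximalTorus (i ≫ e.inv) := by
    haveI : IsMonHom e.symm.hom := he'
    exact isMaximalTorus_comp_iso hT e.symm
  have himax : Red.IsMaximalTorus (i ≫ sp φ) := by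
    have := hmax T (i ≫ e.inv) hiC
    rwa [Category.assoc, ← hφ] at this
  have hsp : IsMonHom (sp (mapK KK φ)) := inferInstance
  have t1 : Transp g₀ (bT (K := KK) i₀) i' := by
    intro x
    constructor
    · rintro ⟨r, rfl⟩
      exact ⟨r, by rw [hi'def, conjTorus_pt]⟩
    · rintro ⟨r, hr⟩
      rw [hi'def, conjTorus_pt] at hr
      exact ⟨r, mul_left_cancel (mul_right_cancel hr)⟩
  have t2 := (hc.comp (sp (mapK KK φ))).trans (hg.comp (sp (mapK KK φ)))
  rw [ht', ← bT_comp] at t2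
  refine ⟨T, gT, i ≫ sp φ, _, himax, ?_, t1.trans t2⟩
  rw [pt_mul, pt_mul, pt_comp_sp, pt_comp_sp, _root_.mul_assoc, ← ha']
  exact hga

/-- **the group without central subgroups of multiplicative type** -/
theorem tdense_core [Infinite k] (hQ : NoCentralMult (P k A))
    (ih : ∀ (B : Type u) [CommRing B] [HopfAlgebra k B] [Algebra.FiniteType k B] [Smooth (P k B).hom]
      [ConnectedSpace (P k B).left],
      topologicalKrullDim (P k B).left < topologicalKrullDim (P k A).left → TDense k B) : TDense k A := by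
  classical
  intro T₀ _ i₀ h₀ a ha
  haveI := (smooth_connected_bcP k A KK).1
  haveI := (smooth_connected_bcP k A KK).2
  haveI : IsDomain (KK ⊗[k] A) := isDomain_bc k A KK
  by_cases hall : ∀ s : A →ₗ[k] k, IsTangent k A s → IsDiagTangent s → Cent s
  · have hi : i₀ = 1 := maxTorus_eq_one hQ hall h₀
    obtain ⟨x, hx⟩ := exists_pt_ne_zero (K := KK) ha
    obtain ⟨g, hg⟩ := pt_surjective (toConv x)
    refine ⟨T₀, inferInstance, i₀, g, h₀, by rw [hg]; exact hx, ?_⟩
    haveI := h₀.1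
    have h1 : bT (K := KK) i₀ = 1 := by
      rw [hi, bT, show (Over.pullback θ).map (1 : T₀ ⟶ P k A) = 1 from map_one (Over.pullback θ).homMonoidHom,
        MonObj.one_comp]
    have hT : ∀ x, x ∈ TorIm (bT (K := KK) i₀) ↔ x = 1 := fun x => by
      rw [h1]
      exact ⟨fun ⟨t, ht⟩ => ht ▸ MonObj.comp_one _, fun hx => ⟨1, hx ▸ MonObj.comp_one _⟩⟩
    intro y
    rw [hT, hT]
    exact conj_eq_one_iff.symm
  obtain ⟨d⟩ := exists_genData (k := k) (A := A)
  set b := bcMat (k := k) KK d.a with hbdef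
  have hb : Gens KK b := bcMat_gens KK d.gens
  obtain ⟨S₀, hS₀, hD₀, hmin, hne, hT₀S⟩ := exists_adapted d hall h₀
  rw [← hbdef] at hS₀ hmin hne hT₀S
  -- a basis of rational tangent vectors
  let n := Module.finrank k (lieSub (k := k) d.a)
  let B0 : Fin n → Matrix d.ι d.ι k := fun j => (Module.finBasis k (lieSub (k := k) d.a) j : lieSub (k := k) d.a)
  have hB0 : LinearIndependent k B0 :=
    (Module.finBasis k (lieSub (k := k) d.a)).linearIndependent.map' (lieSub (k := k) d.a).subtype (Submodule.ker_subtype _)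
  have hB0s : ∀ X ∈ lieSub (k := k) d.a, ∃ c : Fin n → k, ∑ j, c j • B0 j = X := fun X hX => by
    refine ⟨(Module.finBasis k (lieSub (k := k) d.a)).equivFun ⟨X, hX⟩, ?_⟩
    have := congrArg Subtype.val ((Module.finBasis k (lieSub (k := k) d.a)).sum_equivFun ⟨X, hX⟩)
    simpa only [AddSubmonoidClass.coe_finsetSum, SetLike.val_smul] using this
  have hBm : ∀ j, (B0 j).map (algebraMap k KK) ∈ lieSub (k := KK) b := fun j => by
    obtain ⟨w, hw, e⟩ := mem_lieSub.1 (Module.finBasis k (lieSub (k := k) d.a) j).2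
    show Matrix.map _ _ ∈ _
    rw [show B0 j = mat d.a w from e.symm]
    exact map_mem_lieSub KK d.a hw
  obtain ⟨P₀, hP₀, hP⟩ := exists_open_conj hb hS₀ hD₀ ha (fun j => (B0 j).map (algebraMap k KK))
    (linearIndependent_map hB0) hBm (lieSub_span KK B0 hB0s)
  obtain ⟨c, hc⟩ : ∃ c : Fin n → k, MvPolynomial.eval (algebraMap k KK ∘ c) P₀ ≠ 0 := by
    by_contra hcon
    simp only [not_exists, not_not] at hcon
    refine hP₀ (MvPolynomial.funext_set (fun _ => Set.range (algebraMap k KK))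
      (fun _ => Set.infinite_range_of_injective (algebraMap k KK).injective) fun x hx => ?_)
    choose c hc using fun i => hx i trivial
    rw [map_zero, show x = algebraMap k KK ∘ c from funext fun i => (hc i).symm]
    exact hcon c
  obtain ⟨χ, hχa, W, hW, hW0, hWker, hsum⟩ := hP _ hc
  obtain ⟨h1, h2⟩ := ptMat_mul_inv hb χ
  -- the rational element
  obtain ⟨v, hv, hvc⟩ := mem_lieSub.1 (Submodule.sum_mem (lieSub (k := k) d.a)
    (fun j (_ : j ∈ Finset.univ) => Submodule.smul_mem _ (c j) (Module.finBasis k (lieSub (k := k) d.a) j).2))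
  have hV : (mat d.a v).map (algebraMap k KK) = ptMat b χ.ofConv * W * ptMat b χ⁻¹.ofConv := by
    rw [hvc, ← hsum]
    ext p q
    simp only [Matrix.map_apply, Matrix.sum_apply, map_sum, Matrix.smul_apply, smul_eq_mul, map_mul]
    rfl
  obtain ⟨s, hs, hd, hD, -, hker⟩ := exists_ss_ker d hv
  let S : Matrix d.ι d.ι KK := (mat d.a s).map (algebraMap k KK)
  have hSm : S ∈ lieSub (k := KK) b := map_mem_lieSub KK d.a hs
  have hle : cS b S ≤ (cS b S₀).map (conjL (ptMat b χ.ofConv) (ptMat b χ⁻¹.ofConv)) := by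
    rintro X ⟨hX, hX0⟩
    have hmem : X ∈ (adE ((mat d.a v).map (algebraMap k KK))).maxGenEigenspace 0 := by
      rw [hker KK hD]; exact hX0
    rw [Module.End.mem_maxGenEigenspace] at hmem
    simp only [zero_smul, sub_zero, hV] at hmem
    obtain ⟨N, hN⟩ := hmem
    refine ⟨ptMat b χ⁻¹.ofConv * X * ptMat b χ.ofConv, ?_, conj_cancel h1 X⟩
    have hX' : ptMat b χ⁻¹.ofConv * X * ptMat b χ.ofConv ∈ lieSub (k := KK) b := by
      have := lieSub_conj hb χ⁻¹ hX
      rwa [inv_inv] at this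
    refine ⟨hX', hWker _ hX' N ?_⟩
    have e := adE_pow_conj h2 W N (ptMat b χ⁻¹.ofConv * X * ptMat b χ.ofConv)
    rw [conj_cancel h1, hN] at e
    refine (conjL_injective h1 h2) ?_
    rw [map_zero, conjL_apply]
    exact e.symm
  have hfr : Module.finrank KK ((cS b S₀).map (conjL (ptMat b χ.ofConv) (ptMat b χ⁻¹.ofConv))) =
      Module.finrank KK (cS b S₀) := by
    rw [← cS_conj hb, finrank_cS_conj hb]
  have heq : cS b S = (cS b S₀).map (conjL (ptMat b χ.ofConv) (ptMat b χ⁻¹.ofConv)) :=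
    Submodule.eq_of_le_of_finrank_le hle (hfr.le.trans (hmin S hSm hD))
  obtain ⟨S₁, hS₁, hS₁e⟩ : S ∈ (cS b S₀).map (conjL (ptMat b χ.ofConv) (ptMat b χ⁻¹.ofConv)) :=
    heq ▸ ⟨hSm, adE_eq_zero_of_commute (Commute.refl S)⟩
  have hS₁' : S₁ = ptMat b χ⁻¹.ofConv * S * ptMat b χ.ofConv := by
    rw [← hS₁e, conjL_apply, conj_cancel h2]
  have hcent₁ : ∀ Y ∈ cS b S₀, Commute S₁ Y := fun Y hY => by
    have hm : conjL (ptMat b χ.ofConv) (ptMat b χ⁻¹.ofConv) Y ∈ cS b S := heq ▸ ⟨Y, hY, rfl⟩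
    have e := hm.2
    rw [← hS₁e] at e
    refine commute_of_adE ((conjL_injective h1 h2) ?_)
    rw [map_zero, conjL_apply]
    exact (adE_conj h2 S₁ Y).symm.trans e
  have hTS₁ := commute_TorIm hb hS₀ hD₀ hne (isMaximalTorus_bT (K := KK) h₀) hT₀S hS₁
    (hS₁' ▸ hD.conj h2 h1) hcent₁
  have hnc : ¬ Cent s := by
    intro hcs
    refine hne (Submodule.eq_of_le_of_finrank_le inf_le_left ?_)
    show Module.finrank KK (lieSub (k := KK) b) ≤ Module.finrank KK (cS b S₀)
    rw [← hfr, ← heq]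
    refine Submodule.finrank_mono fun X hX => ⟨hX, ?_⟩
    obtain ⟨e, he⟩ := lieSub_span KK B0 hB0s X hX
    show adE S X = 0
    rw [← he, map_sum]
    refine Finset.sum_eq_zero fun j _ => ?_
    obtain ⟨w, -, hwe⟩ := mem_lieSub.1 (Module.finBasis k (lieSub (k := k) d.a) j).2
    rw [map_smul, adE_eq_zero_of_commute (S := S) (X := (B0 j).map (algebraMap k KK)) ?_, smul_zero]
    rw [show B0 j = mat d.a w from hwe.symm]
    exact (commute_of_cent d.gens hcs w).map (algebraMap k KK).mapMatrix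
  obtain ⟨g₀, hg₀⟩ := pt_surjective χ
  refine tdense_descend d ih hs hd hnc h₀ g₀ (fun x hx => ?_) (by rw [hg₀]; exact hχa)
  rw [pt_mul, pt_mul, pt_inv, hg₀, ← hbdef, ptMat_mul hb, ptMat_mul hb,
    show (mat d.a s).map (algebraMap k KK) = ptMat b χ.ofConv * S₁ * ptMat b χ⁻¹.ofConv from hS₁e.symm]
  show _ * _ = _ * _
  have e := (hTS₁ x hx).eq
  simp only [← _root_.mul_assoc] at *
  rw [_root_.mul_assoc _ (ptMat b χ⁻¹.ofConv) (ptMat b χ.ofConv), h2, _root_.mul_one,
    _root_.mul_assoc _ (ptMat b χ⁻¹.ofConv) (ptMat b χ.ofConv), h2, _root_.mul_one,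
    _root_.mul_assoc (ptMat b χ.ofConv) _ S₁, e, _root_.mul_assoc (ptMat b χ.ofConv) S₁]

end Groth.L20.Dense
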