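import Groth.Agent.L20.Dense.OpenImage
import Groth.Agent.L20.Dense.MatLie
import Mathlib.RingTheory.TensorProduct.MvPolynomial

/-!
# Conjugates of the centraliser Lie algebra fill an open set
-/

set_option autoImplicit false
set_option backward.isDefEq.respectTransparency false
set_option linter.style.haveILetI false
set_option linter.unusedSectionVars false

universe u

open WithConv TensorProduct

noncomputable section

namespace Groth.L20.Dense

open Groth.L08 Groth.L08.AugGraded Groth.L24.TorusField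

variable {K : Type u} [Field K] {σ : Type u} [Fintype σ] [DecidableEq σ]

/-- coordinates of a space of matrices -/
theorem exists_coords {n : ℕ} (B : Fin n → Matrix σ σ K) (hB : LinearIndependent K B) :
    ∃ γ : Matrix σ σ K →ₗ[K] (Fin n → K), ∀ c, γ (∑ j, c j • B j) = c := by
  obtain ⟨γ, hγ⟩ := LinearMap.exists_leftInverse_of_injective (Fintype.linearCombination K B)
    (LinearMap.ker_eq_bot.2 (linearIndependent_iff_injective_fintypeLinearCombination.1 hB))
  refine ⟨γ, fun c => ?_⟩
  have e := LinearMap.congr_fun hγ c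
  simpa [Fintype.linearCombination_apply] using e

/-- evaluation of a coordinate -/
theorem coord_eval {R : Type u} [CommRing R] [Algebra K R] {n : ℕ} (γ : Matrix σ σ K →ₗ[K] (Fin n → K))
    (δ : R →ₗ[K] K) (W : Matrix σ σ R) (j : Fin n) :
    δ (∑ p, ∑ q, γ (Matrix.single p q 1) j • W p q) = γ (W.map δ) j := by
  conv_rhs => rw [Matrix.matrix_eq_sum_single (W.map δ)]
  simp only [map_sum, map_smul, Finset.sum_apply, smul_eq_mul]
  refine Finset.sum_congr rfl fun p _ => Finset.sum_congr rfl fun q _ => ?_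
  rw [show Matrix.single p q ((W.map δ) p q) = δ (W p q) • Matrix.single p q (1 : K) by
    rw [Matrix.smul_single, smul_eq_mul, mul_one]; rfl, map_smul, Pi.smul_apply, smul_eq_mul, mul_comm]

variable [IsAlgClosed K] {H : Type u} [CommRing H] [HopfAlgebra K H] [Algebra.FiniteType K H] [IsDomain H]
  {b : Matrix σ σ H}

/-- a direction on the group times an affine space -/
def dirDer {r : ℕ} (w : H →ₗ[K] K) (z : Fin r → K) :
    H ⊗[K] MvPolynomial (Fin r) K →ₗ[K] H ⊗[K] MvPolynomial (Fin r) K :=
  (fAct H w).rTensor (MvPolynomial (Fin r) K) +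
    ∑ l, z l • ((MvPolynomial.pderiv l : Derivation K (MvPolynomial (Fin r) K) (MvPolynomial (Fin r) K)) :
      MvPolynomial (Fin r) K →ₗ[K] MvPolynomial (Fin r) K).lTensor H

theorem dirDer_tmul {r : ℕ} (w : H →ₗ[K] K) (z : Fin r → K) (a : H) (g : MvPolynomial (Fin r) K) :
    dirDer w z (a ⊗ₜ[K] g) = fAct H w a ⊗ₜ[K] g + ∑ l, z l • (a ⊗ₜ[K] MvPolynomial.pderiv l g) := by
  simp [dirDer, LinearMap.sum_apply]

theorem dirDer_mul {r : ℕ} {w : H →ₗ[K] K} (hw : IsTangent K H w) (z : Fin r → K)
    (x y : H ⊗[K] MvPolynomial (Fin r) K) : dirDer w z (x * y) = x * dirDer w z y + y * dirDer w z x := by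
  induction x using TensorProduct.induction_on with
  | zero => simp
  | add p q hp hq => simp only [add_mul, map_add, hp, hq, mul_add]; abel
  | tmul a g =>
    induction y using TensorProduct.induction_on with
    | zero => simp
    | add p q hp hq => simp only [mul_add, map_add, hp, hq, add_mul]; abel
    | tmul a' g' =>
      simp only [dirDer_tmul, Algebra.TensorProduct.tmul_mul_tmul, Derivation.leibniz, fAct_leibniz hw,
        smul_eq_mul, TensorProduct.tmul_add, TensorProduct.add_tmul, mul_add, Finset.mul_sum, mul_smul_comm,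
        smul_add, Finset.sum_add_distrib]
      rw [mul_comm g' g, mul_comm a' a]
      abel

/-- the commutator is linear in the first variable -/
theorem adE_sum_apply {r : ℕ} (z : Fin r → K) (U : Fin r → Matrix σ σ K) (X : Matrix σ σ K) :
    adE (∑ l, z l • U l) X = ∑ l, z l • adE (U l) X := by
  simp only [adE_apply, Finset.sum_mul, Finset.mul_sum, smul_sub, Finset.sum_sub_distrib, smul_mul_assoc,
    mul_smul_comm]

/-- **generic matrices of the Lie algebra are conjugate into a centraliser** -/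
theorem exists_open_conj (h : Gens K b) {S0 : Matrix σ σ K} (hS0 : S0 ∈ lieSub b) (hD : DiagM S0) {F0 : H}
    (hF0 : F0 ≠ 0) {n : ℕ} (B : Fin n → Matrix σ σ K) (hB : LinearIndependent K B) (hBm : ∀ j, B j ∈ lieSub b)
    (hBs : ∀ X ∈ lieSub b, ∃ c : Fin n → K, ∑ j, c j • B j = X) :
    ∃ P : MvPolynomial (Fin n) K, P ≠ 0 ∧ ∀ c, MvPolynomial.eval c P ≠ 0 →
      ∃ χ : WithConv (H →ₐ[K] K), χ.ofConv F0 ≠ 0 ∧ ∃ W ∈ lieSub b, adE S0 W = 0 ∧
        (∀ X ∈ lieSub b, ∀ N : ℕ, (adE W ^ N) X = 0 → adE S0 X = 0) ∧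
        ∑ j, c j • B j = ptMat b χ.ofConv * W * ptMat b χ⁻¹.ofConv := by
  classical
  let L0 : Submodule K (Matrix σ σ K) := lieSub b ⊓ LinearMap.ker (adE S0)
  let E : Submodule K (Matrix σ σ K) := (lieSub b).map (adE S0)
  have hdec : ∀ X ∈ lieSub b, ∃ u ∈ L0, ∃ V ∈ lieSub b, X = u + adE S0 V := by
    let f : Module.End K (lieSub b) :=
      ((adE S0).comp (lieSub b).subtype).codRestrict (lieSub b) fun X => lieSub_bracket h hS0 X.2
    have hdisj : Disjoint (LinearMap.ker f) (LinearMap.range f) := by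
      rw [Submodule.disjoint_def]
      rintro x hx ⟨y, rfl⟩
      have e : (adE S0 ^ 2) (y : Matrix σ σ K) = 0 := by
        rw [pow_two, Module.End.mul_apply]
        exact congrArg Subtype.val hx
      exact Subtype.ext (hD.adE_eq_zero e)
    have htop : LinearMap.ker f ⊔ LinearMap.range f = ⊤ := by
      refine Submodule.eq_top_of_finrank_eq ?_
      have e := Submodule.finrank_sup_add_finrank_inf_eq (LinearMap.ker f) (LinearMap.range f)
      rw [hdisj.eq_bot, finrank_bot, add_zero, add_comm, LinearMap.finrank_range_add_finrank_ker] at e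
      exact e
    intro X hX
    obtain ⟨u, hu, w, ⟨V, rfl⟩, e⟩ := Submodule.mem_sup.1 (show (⟨X, hX⟩ : lieSub b) ∈ _ ⊔ _ by rw [htop]; trivial)
    exact ⟨u, ⟨u.2, congrArg Subtype.val hu⟩, V, V.2, (congrArg Subtype.val e).symm⟩
  have hdisjE : ∀ x, adE S0 x = 0 → x ∈ E → x = 0 := by
    rintro x hx ⟨V, -, rfl⟩
    exact hD.adE_eq_zero (N := 2) (by rw [pow_two, Module.End.mul_apply]; exact hx)
  let r := Module.finrank K L0
  let U : Fin r → Matrix σ σ K := fun l => (Module.finBasis K L0 l : L0)
  have hU : ∀ l, U l ∈ lieSub b ∧ adE S0 (U l) = 0 := fun l => (Module.finBasis K L0 l).2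
  have hUs : ∀ X ∈ L0, ∃ z : Fin r → K, ∑ l, z l • U l = X := fun X hX => by
    refine ⟨(Module.finBasis K L0).equivFun ⟨X, hX⟩, ?_⟩
    have := congrArg Subtype.val ((Module.finBasis K L0).sum_equivFun ⟨X, hX⟩)
    simpa only [AddSubmonoidClass.coe_finsetSum, SetLike.val_smul] using this
  let m := Module.finrank K E
  let eB : Fin m → Matrix σ σ K := fun i => (Module.finBasis K E i : E)
  have heB : LinearIndependent K eB := (Module.finBasis K E).linearIndependent.map' E.subtype E.ker_subtype
  obtain ⟨γE, hγE⟩ := exists_coords eB heB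
  obtain ⟨γB, hγB⟩ := exists_coords B hB
  have heBm : ∀ y : Fin m → K, ∑ i, y i • eB i ∈ E := fun y =>
    Submodule.sum_mem _ fun i _ => E.smul_mem _ (Module.finBasis K E i).2
  have hEs : ∀ X ∈ E, ∑ i, γE X i • eB i = X := fun X hX => by
    obtain ⟨y, hy⟩ : ∃ y : Fin m → K, ∑ i, y i • eB i = X := by
      refine ⟨(Module.finBasis K E).equivFun ⟨X, hX⟩, ?_⟩
      have := congrArg Subtype.val ((Module.finBasis K E).sum_equivFun ⟨X, hX⟩)
      simpa only [AddSubmonoidClass.coe_finsetSum, SetLike.val_smul] using this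
    rw [← hy, hγE]
  -- the action of the centraliser on the complement
  let G : Fin r → Matrix (Fin m) (Fin m) K := fun l => Matrix.of fun i j => γE (adE (U l) (eB j)) i
  have hUE : ∀ W, W ∈ lieSub b → adE S0 W = 0 → ∀ X ∈ E, adE W X ∈ E := by
    rintro W hW hW0 _ ⟨V, hV, rfl⟩
    have hcm : Commute S0 W := sub_eq_zero.1 hW0
    refine ⟨adE W V, lieSub_bracket h hW hV, ?_⟩
    have e := LinearMap.congr_fun (adE_commute hcm).eq V
    simpa only [Module.End.mul_apply] using e
  have hG : ∀ (z : Fin r → K) (y : Fin m → K),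
      adE (∑ l, z l • U l) (∑ i, y i • eB i) = ∑ i, ((∑ l, z l • G l).mulVec y) i • eB i := by
    intro z y
    have hWm : ∑ l, z l • U l ∈ lieSub b := Submodule.sum_mem _ fun l _ => Submodule.smul_mem _ _ (hU l).1
    have hW0 : adE S0 (∑ l, z l • U l) = 0 := by simp only [map_sum, map_smul, (hU _).2, smul_zero, Finset.sum_const_zero]
    rw [← hEs _ (hUE _ hWm hW0 _ (heBm y))]
    refine Finset.sum_congr rfl fun i _ => ?_
    congr 1
    have e : adE (∑ l, z l • U l) (∑ i, y i • eB i) = ∑ l, ∑ j, (z l * y j) • adE (U l) (eB j) := by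
      rw [adE_sum_apply]
      simp only [map_sum, map_smul, smul_smul, Finset.smul_sum]
    rw [e]
    simp only [map_sum, map_smul, Finset.sum_apply, Pi.smul_apply, smul_eq_mul, Matrix.mulVec, dotProduct,
      Matrix.sum_apply, Matrix.smul_apply, G, Matrix.of_apply, Finset.sum_mul]
    rw [Finset.sum_comm]
    exact Finset.sum_congr rfl fun j _ => Finset.sum_congr rfl fun l _ => by ring
  obtain ⟨z0, hz0⟩ := hUs S0 ⟨hS0, show adE S0 S0 = 0 by rw [adE_apply, sub_self]⟩
  have hdet0 : (∑ l, z0 l • G l).det ≠ 0 := by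
    intro hd
    obtain ⟨y, hy, hy0⟩ := Matrix.exists_mulVec_eq_zero_iff.2 hd
    refine hy ?_
    have e : adE S0 (∑ i, y i • eB i) = 0 := by rw [← hz0, hG, hy0]; simp
    rw [← hγE y, hdisjE _ e (heBm y), map_zero]
  -- the universal conjugate
  let MP := MvPolynomial (Fin r) K
  let R := H ⊗[K] MP
  haveI : IsDomain R := Function.Injective.isDomain (MvPolynomial.algebraTensorAlgEquiv K H).toRingEquiv.toRingHom
    (MvPolynomial.algebraTensorAlgEquiv K H).injective
  let incl : H →ₐ[K] R := Algebra.TensorProduct.includeLeft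
  let incr : MP →ₐ[K] R := Algebra.TensorProduct.includeRight
  let XU : Matrix σ σ MP := ∑ l, (MvPolynomial.X l : MP) • (U l).map MvPolynomial.C
  let M1 : Matrix σ σ R := b.map incl
  let N1 : Matrix σ σ R := b.map fun a => incl (HopfAlgebra.antipode K a)
  let WR : Matrix σ σ R := M1 * XU.map incr * N1
  let f : Fin n → R := fun j => ∑ p, ∑ q, γB (Matrix.single p q 1) j • WR p q
  let ev : (H →ₐ[K] K) → (Fin r → K) → (R →ₐ[K] K) := fun χ z =>
    Algebra.TensorProduct.lift χ (MvPolynomial.aeval z) fun _ _ => Commute.all _ _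
  have hXU : ∀ z : Fin r → K, XU.map (MvPolynomial.aeval z : MP →ₐ[K] K) = ∑ l, z l • U l := fun z => by
    ext p q
    simp [XU, Matrix.sum_apply, Matrix.map_apply, map_sum]
  have hpt : ∀ (x : R →ₐ[K] K),
      WR.map x = ptMat b (x.comp incl) * (XU.map (x.comp incr)) * ptMat b ((x.comp incl).comp (HopfAlgebra.antipodeAlgHom K H)) := by
    intro x
    show (M1 * XU.map incr * N1).map x = _
    rw [Matrix.map_mul, Matrix.map_mul]
    rfl
  let y0 : R →ₐ[K] K := ev (Bialgebra.counitAlgHom K H) z0
  have hy0l : y0.comp incl = Bialgebra.counitAlgHom K H := AlgHom.ext fun a => by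
    show Coalgebra.counit (R := K) a * MvPolynomial.aeval z0 (1 : MP) = _
    rw [map_one, mul_one]; rfl
  have hy0r : y0.comp incr = MvPolynomial.aeval z0 := AlgHom.ext fun a => by
    show Bialgebra.counitAlgHom K H (1 : H) * MvPolynomial.aeval z0 a = _
    rw [map_one, one_mul]
  have hM0 : M1.map y0 = 1 := by
    ext p q
    show y0 (incl (b p q)) = _
    rw [show y0 (incl (b p q)) = Coalgebra.counit (R := K) (b p q) from DFunLike.congr_fun hy0l (b p q), h.counit]
  have hN0 : N1.map y0 = 1 := by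
    ext p q
    show y0 (incl (HopfAlgebra.antipode K (b p q))) = _
    rw [show y0 (incl (HopfAlgebra.antipode K (b p q))) = Coalgebra.counit (R := K) (HopfAlgebra.antipode K (b p q))
      from DFunLike.congr_fun hy0l _, HopfAlgebra.counit_antipode, h.counit]
  -- directions
  have hchoice : ∀ j, ∃ (w : H →ₗ[K] K) (z : Fin r → K), IsTangent K H w ∧
      adE (mat b w) S0 + ∑ l, z l • U l = B j := by
    intro j
    obtain ⟨u, hu, V, hV, e⟩ := hdec _ (hBm j)
    obtain ⟨v, hv, hvV⟩ := mem_lieSub.1 (Submodule.neg_mem _ hV)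
    obtain ⟨z, hz⟩ := hUs u hu
    refine ⟨v, z, hv, ?_⟩
    rw [hvV, hz, e, adE_apply, adE_apply, neg_mul, mul_neg]
    abel
  choose w z hw hwz using hchoice
  let D : Fin n → R →ₗ[K] R := fun j => dirDer (w j) (z j)
  have hDl : ∀ j (x y : R), D j (x * y) = x * D j y + y * D j x := fun j => dirDer_mul (hw j) (z j)
  let δ : Fin n → R →ₗ[K] K := fun j => (y0 : R →ₗ[K] K) ∘ₗ D j
  have hδmul : ∀ j (P Q : Matrix σ σ R), (P * Q).map (δ j) = P.map (δ j) * Q.map y0 + P.map y0 * Q.map (δ j) := by
    intro j P Q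
    ext p q
    simp only [Matrix.map_apply, Matrix.add_apply, Matrix.mul_apply, map_sum, ← Finset.sum_add_distrib]
    refine Finset.sum_congr rfl fun l _ => ?_
    show y0 (D j (P p l * Q l q)) = y0 (D j (P p l)) * y0 (Q l q) + y0 (P p l) * y0 (D j (Q l q))
    rw [hDl, map_add, map_mul, map_mul]
    ring
  have hinl : ∀ j (a : H), δ j (incl a) = w j a := by
    intro j a
    show y0 (dirDer (w j) (z j) (a ⊗ₜ[K] (1 : MP))) = _
    rw [dirDer_tmul]
    simp only [Derivation.map_one_eq_zero, TensorProduct.tmul_zero, smul_zero, Finset.sum_const_zero, add_zero]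
    show y0 (incl (fAct H (w j) a)) = _
    rw [show y0 (incl (fAct H (w j) a)) = Coalgebra.counit (R := K) (fAct H (w j) a) from DFunLike.congr_fun hy0l _,
      ← Bialgebra.counitAlgHom_apply, counit_fAct]
  have hinr : ∀ j (g : MP), δ j (incr g) = ∑ l, z j l * MvPolynomial.aeval z0 (MvPolynomial.pderiv l g) := by
    intro j g
    show y0 (dirDer (w j) (z j) ((1 : H) ⊗ₜ[K] g)) = _
    have h1 : fAct H (w j) (1 : H) = 0 := by simpa using fAct_leibniz (hw j) (1 : H) 1
    rw [dirDer_tmul]
    simp only [h1, TensorProduct.zero_tmul, zero_add, map_sum, map_smul, smul_eq_mul]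
    refine Finset.sum_congr rfl fun l _ => ?_
    congr 1
    exact DFunLike.congr_fun hy0r _
  have hWδ : ∀ j, WR.map (δ j) = B j := by
    intro j
    have h1 : M1.map (δ j) = mat b (w j) := by ext p q; exact hinl j _
    have h2 : N1.map (δ j) = -mat b (w j) := by
      ext p q
      show δ j (incl (HopfAlgebra.antipode K (b p q))) = _
      rw [hinl, tangent_antipode (hw j)]
      rfl
    have h3 : (XU.map incr).map y0 = S0 := by
      rw [Matrix.map_map, ← hz0, ← hXU z0, ← hy0r]; rfl
    have h4 : (XU.map incr).map (δ j) = ∑ l, z j l • U l := by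
      ext p q
      show δ j (incr (XU p q)) = _
      rw [hinr]
      simp [XU, Matrix.sum_apply, MvPolynomial.pderiv_X, Pi.single_apply, apply_ite (MvPolynomial.aeval z0)]
    show (M1 * XU.map incr * N1).map (δ j) = _
    rw [hδmul, hδmul, Matrix.map_mul, hM0, hN0, h1, h2, h3, h4]
    simp only [mul_one, one_mul, ← hwz j, adE_apply, mul_neg]
    abel
  have hinj : Function.Injective (MvPolynomial.aeval f : MvPolynomial (Fin n) K →ₐ[K] R) := by
    refine injective_aeval_of_leibniz f D hDl y0 ?_
    have e : (Matrix.of fun i j => y0 (D j (f i))) = (1 : Matrix (Fin n) (Fin n) K) := by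
      ext i j
      show δ j (f i) = _
      rw [coord_eval γB (δ j) WR i, hWδ, show B j = ∑ i, (Pi.single j 1 : Fin n → K) i • B i by simp, hγB]
      simp [Matrix.one_apply, Pi.single_apply]
    rw [e, Matrix.det_one]
    exact one_ne_zero
  -- the open set
  let DG : MP := (∑ l, (MvPolynomial.X l : MP) • (G l).map MvPolynomial.C).det
  have hDG : ∀ z : Fin r → K, MvPolynomial.aeval z DG = (∑ l, z l • G l).det := fun z => by
    rw [AlgHom.map_det]
    congr 1
    ext i j
    simp [Matrix.sum_apply, map_sum]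
  have hF : incl F0 * incr DG ≠ 0 := by
    refine mul_ne_zero ?_ ?_
    · exact (map_ne_zero_iff _ (Algebra.TensorProduct.includeLeft_injective (R := K) (S := K) (A := H) (B := MP)
        (algebraMap K MP).injective)).2 hF0
    · refine (map_ne_zero_iff _ (Algebra.TensorProduct.includeRight_injective (R := K) (A := H) (B := MP)
        (algebraMap K H).injective)).2 fun e => hdet0 ?_
      rw [← hDG, e, map_zero]
  obtain ⟨P, hP0, hP⟩ := exists_open_image (MvPolynomial.aeval f) hinj hF
  refine ⟨P, hP0, fun c hc => ?_⟩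
  obtain ⟨x, hxF, hxc⟩ := hP (MvPolynomial.aeval c) (by rwa [MvPolynomial.aeval_eq_eval])
  rw [map_mul] at hxF
  let χ : WithConv (H →ₐ[K] K) := toConv (x.comp incl)
  let zz : Fin r → K := fun l => x (incr (MvPolynomial.X l))
  have hxr : x.comp incr = MvPolynomial.aeval zz := MvPolynomial.algHom_ext fun l => by
    rw [MvPolynomial.aeval_X]; rfl
  let W : Matrix σ σ K := ∑ l, zz l • U l
  have hWm : W ∈ lieSub b := Submodule.sum_mem _ fun l _ => Submodule.smul_mem _ _ (hU l).1
  have hW0 : adE S0 W = 0 := by simp only [W, map_sum, map_smul, (hU _).2, smul_zero, Finset.sum_const_zero]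
  refine ⟨χ, left_ne_zero_of_mul hxF, W, hWm, hW0, fun X hX N hN => ?_, ?_⟩
  · obtain ⟨u, hu, V, hV, rfl⟩ := hdec X hX
    have hcm : Commute S0 W := sub_eq_zero.1 hW0
    have hpu : adE S0 ((adE W ^ N) u) = 0 := by
      have e := LinearMap.congr_fun ((adE_commute hcm).pow_right N).eq u
      simp only [Module.End.mul_apply] at e
      rw [e, show adE S0 u = 0 from hu.2, map_zero]
    have hpe : (adE W ^ N) (adE S0 V) ∈ E := by
      clear hN hpu
      induction N with
      | zero => exact ⟨V, hV, rfl⟩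
      | succ N ih => rw [pow_succ', Module.End.mul_apply]; exact hUE W hWm hW0 _ ih
    rw [map_add] at hN
    have hz : (adE W ^ N) (adE S0 V) = 0 := hdisjE _ (by
      rw [show (adE W ^ N) (adE S0 V) = -((adE W ^ N) u) from eq_neg_of_add_eq_zero_right hN, map_neg, hpu, neg_zero]) hpe
    have hunit : IsUnit (∑ l, zz l • G l).det := by
      refine isUnit_iff_ne_zero.2 ?_
      rw [← hDG, ← hxr]
      exact right_ne_zero_of_mul hxF
    obtain ⟨y, hy⟩ : ∃ y : Fin m → K, ∑ i, y i • eB i = adE S0 V := ⟨_, hEs _ ⟨V, hV, rfl⟩⟩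
    have hiter : ∀ N, (adE W ^ N) (∑ i, y i • eB i) = ∑ i, (((∑ l, zz l • G l) ^ N).mulVec y) i • eB i := by
      intro N
      induction N with
      | zero => simp
      | succ N ih => rw [pow_succ', Module.End.mul_apply, ih, hG, Matrix.mulVec_mulVec, ← pow_succ']
    rw [← hy, hiter] at hz
    have h0 := congrArg γE hz
    rw [hγE, map_zero] at h0
    have hy0 : y = 0 := by
      have hu' : IsUnit ((∑ l, zz l • G l) ^ N) := ((Matrix.isUnit_iff_isUnit_det _).2 hunit).pow N
      exact Matrix.mulVec_injective_iff_isUnit.2 hu' (h0.trans (Matrix.mulVec_zero _).symm)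
    rw [← hy, hy0]
    simp only [Pi.zero_apply, zero_smul, Finset.sum_const_zero, add_zero]
    exact hu.2
  · have hWx : WR.map x = ptMat b χ.ofConv * W * ptMat b χ⁻¹.ofConv := by
      rw [hpt x, hxr, hXU zz]
      rfl
    rw [← hWx]
    obtain ⟨c', hc'⟩ := hBs (WR.map x) (hWx ▸ lieSub_conj h χ hWm)
    rw [← hc']
    congr 1
    have e : c = c' := funext fun i => by
      have e1 := DFunLike.congr_fun hxc (MvPolynomial.X i)
      rw [AlgHom.comp_apply, MvPolynomial.aeval_X, MvPolynomial.aeval_X] at e1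
      rw [← e1]
      refine (coord_eval γB (x : R →ₗ[K] K) WR i).trans ?_
      show γB (WR.map x) i = _
      rw [← hc', hγB]
    rw [e]

end Groth.L20.Dense
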