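import Groth.Agent.L20.Dense.Cent
import Groth.Agent.L20.Dense.Dominant
import Groth.Agent.L20.Unir.Families

/-!
# Rational maximal tori are dense: the group without central subgroups of multiplicative type
-/

set_option autoImplicit false
set_option backward.isDefEq.respectTransparency false
set_option backward.isDefEq.respectTransparency.types false
set_option linter.style.haveILetI false
set_option linter.unusedSectionVars false

universe u

open CategoryTheory CategoryTheory.Limits MonoidalCategory CartesianMonoidalCategory MonObj AlgebraicGeometry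
open TensorProduct WithConv
open Groth.L25.Bridge (P)
open Groth.L08.TorusQuot (sp sp_left toPt toPt_pre SP pre Pt ofPt toPt_ofPt ofPt_toPt)

noncomputable section

namespace Groth.L20.Dense

open Groth.L08 Groth.L08.AugGraded Groth.L24.TorusField Groth.L20.Unirat

/-- the conjugates of a maximal torus into rational maximal tori are dense -/
def TDense (k : Type u) [Field k] (A : Type u) [CommRing A] [HopfAlgebra k A] : Prop :=
  ∀ (T₀ : Over (Spec (CommRingCat.of k))) [GrpObj T₀] (i₀ : T₀ ⟶ P k A), Red.IsMaximalTorus i₀ →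
    ∀ a : AlgebraicClosure k ⊗[k] A, a ≠ 0 →
      ∃ (T : Over (Spec (CommRingCat.of k))) (_ : GrpObj T) (i : T ⟶ P k A)
        (g : 𝟙_ (Over (Spec (CommRingCat.of (AlgebraicClosure k)))) ⟶
          P (AlgebraicClosure k) (AlgebraicClosure k ⊗[k] A)),
        Red.IsMaximalTorus i ∧ (pt g).ofConv a ≠ 0 ∧
          Transp g (bT (K := AlgebraicClosure k) i₀) (bT (K := AlgebraicClosure k) i)

section overClosed

variable {K : Type u} [Field K] {H : Type u} [CommRing H] [HopfAlgebra K H] {σ : Type u} [Fintype σ]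
  [DecidableEq σ] {b : Matrix σ σ H} (h : Gens K b)
include h

theorem cS_eq_of_cent {s : H →ₗ[K] K} (hc : Cent s) : cS b (mat b s) = lieSub b := by
  refine le_antisymm inf_le_left fun X hX => ⟨hX, ?_⟩
  obtain ⟨w, -, rfl⟩ := mem_lieSub.1 hX
  exact adE_eq_zero_of_commute (commute_of_cent h hc w)

/-- points of the connected centraliser commute with the tangent vectors central there -/
theorem commute_of_factor {C : Over (Spec (CommRingCat.of K))} {B : Type u} [CommRing B] [HopfAlgebra K B]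
    (e : C ≅ P K B) (c : C ⟶ P K H) (φ : H →ₐc[K] B) (hφ : sp φ = e.inv ≫ c)
    {w : B →ₗ[K] K} (hw : Cent w) (y : 𝟙_ (Over (Spec (CommRingCat.of K))) ⟶ C) :
    Commute (ptMat b (pt (y ≫ c)).ofConv) (mat b (w ∘ₗ (φ : H →ₗc[K] B).toLinearMap)) := by
  have e1 : pt (y ≫ c) = pre φ (pt (y ≫ e.hom)) := by
    rw [← pt_comp_sp, hφ, Category.assoc, e.hom_inv_id_assoc]
  rw [e1]
  exact (commute_mat_of_cent h φ hw (pt (y ≫ e.hom)).ofConv.toLinearMap).symm

variable [IsAlgClosed K] [Algebra.FiniteType K H] [Smooth (P K H).hom] [ConnectedSpace (P K H).left]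

/-- some maximal torus commutes with a semisimple element -/
theorem exists_torus_commute {S : Matrix σ σ K} (hS : S ∈ lieSub b) (hD : DiagM S) (hne : cS b S ≠ lieSub b) :
    ∃ (T : Over (Spec (CommRingCat.of K))) (_ : GrpObj T) (i : T ⟶ P K H), Red.IsMaximalTorus i ∧
      ∀ x ∈ TorIm i, Commute (ptMat b (pt x).ofConv) S := by
  obtain ⟨s, hs, rfl⟩ := mem_lieSub.1 hS
  have hd : IsDiagTangent s := isDiagTangent_of_mat h hs (DiagM.map (algebraMap K (AlgebraicClosure K)) hD)
  obtain ⟨Z, gZ, z, C, gC, j, hzm, hzmono, hzc, hj, hCa, hCs, hCc, -, hmax, -, hfac⟩ :=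
    exists_centraliser hs hd fun hc => hne (cS_eq_of_cent h hc)
  haveI := hzm; haveI := hCa; haveI := hCs; haveI := hCc; haveI := hj.hom
  obtain ⟨T, gT, t, hT⟩ := exists_maximalTorus_connected C
  obtain ⟨B, _, _, e, he, he', _, _, _⟩ := exists_hopfData C
  haveI := he; haveI := he'
  obtain ⟨φ, hφ⟩ := Groth.L08.TorusQuot.exists_sp (e.inv ≫ j ≫ z)
  obtain ⟨s', -, hs'c, hs's⟩ := hfac B e φ hφ
  refine ⟨T, gT, t ≫ j ≫ z, hmax T t hT, ?_⟩
  rintro _ ⟨r, rfl⟩
  have := commute_of_factor h e (j ≫ z) φ hφ hs'c (r ≫ t)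
  rw [show s' ∘ₗ (φ : H →ₗc[K] B).toLinearMap = s from LinearMap.ext hs's] at this
  simpa only [Category.assoc] using this

/-- a torus commuting with a semisimple element commutes with the centre of its centraliser -/
theorem commute_TorIm {S : Matrix σ σ K} (hS : S ∈ lieSub b) (hD : DiagM S) (hne : cS b S ≠ lieSub b)
    {T : Over (Spec (CommRingCat.of K))} [GrpObj T] {i : T ⟶ P K H} (hT : Red.IsMaximalTorus i)
    (hTS : ∀ x ∈ TorIm i, Commute (ptMat b (pt x).ofConv) S)
    {S' : Matrix σ σ K} (hS' : S' ∈ cS b S) (hD' : DiagM S') (hc : ∀ Y ∈ cS b S, Commute S' Y) :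
    ∀ x ∈ TorIm i, Commute (ptMat b (pt x).ofConv) S' := by
  obtain ⟨s, hs, rfl⟩ := mem_lieSub.1 hS
  have hd : IsDiagTangent s := isDiagTangent_of_mat h hs (DiagM.map (algebraMap K (AlgebraicClosure K)) hD)
  obtain ⟨Z, gZ, z, C, gC, j, hzm, hzmono, hzc, hj, hCa, hCs, hCc, -, -, hlift, hfac⟩ :=
    exists_centraliser hs hd fun hc => hne (cS_eq_of_cent h hc)
  haveI := hzm; haveI := hCa; haveI := hCs; haveI := hCc; haveI := hzmono; haveI := hzc
  haveI := hj.hom; haveI := hj.closedImm; haveI := hj.openImm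
  haveI := hT.1
  obtain ⟨a1, a2, a3, -, -⟩ := Groth.L08.Borel.torus_props hT.2.2.1
  haveI := a2; haveI := a3
  haveI : IsReduced T.left := Groth.Agent.AV.isReduced_of_smooth_field T.hom
  obtain ⟨t, ht⟩ := factor_connected z j i fun r => by
    obtain ⟨y, hy⟩ := hlift K (pt (r ≫ i)).ofConv (commD_of_commute h _ hs (by
      rw [show (mat b s).map (algebraMap K K) = mat b s by ext p q; rfl]
      exact hTS _ ⟨r, rfl⟩))
    refine ⟨inv (e0 K) ≫ y, ?_⟩
    rw [Category.assoc, hy, toPt_pt, IsIso.inv_hom_id_assoc]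
  obtain ⟨B, _, _, e, he, he', hBf, hBs, hBc⟩ := exists_hopfData C
  haveI := he; haveI := he'; haveI := hBf; haveI := hBs; haveI := hBc
  obtain ⟨φ, hφ⟩ := Groth.L08.TorusQuot.exists_sp (e.inv ≫ j ≫ z)
  obtain ⟨s', -, hs'c, hs's⟩ := hfac B e φ hφ
  have hs'e : s' ∘ₗ (φ : H →ₗc[K] B).toLinearMap = s := LinearMap.ext hs's
  haveI : IsClosedImmersion (sp φ).left := by
    rw [hφ, Over.comp_left, Over.comp_left]
    haveI : IsIso e.inv.left := inferInstanceAs (IsIso ((Over.forget _).map e.inv))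
    infer_instance
  have hφs : Function.Surjective φ := surjective_of_closedImmersion φ
  obtain ⟨w, hw, rfl⟩ := mem_lieSub.1 hS'.1
  obtain ⟨y, hy⟩ := hlift (DualNumber K) (dualPt hw)
    (commD_dualPt hw (conv_commute h hw hs (commute_of_adE hS'.2).symm))
  obtain ⟨y', hy'⟩ := exists_lift_dual z j y (by rw [hy]; exact fst_toPt_dualPt hw _ rfl)
  obtain ⟨ψ, hψ⟩ : ∃ ψ, ψ = ofPt (y' ≫ e.hom) := ⟨_, rfl⟩
  have hdual : toConv (dualPt hw) = pre φ ψ := by
    apply (Spec.mapMulEquiv (R := K) (S := H) (T := DualNumber K)).injective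
    show toPt _ = toPt _
    rw [toPt_pre, hψ, toPt_ofPt, hφ, Category.assoc, e.hom_inv_id_assoc, reassoc_of% hy', hy]
  have hψφ : ∀ p, ψ.ofConv (φ p) = dualPt hw p := fun p =>
    (congrArg (fun q : WithConv (H →ₐ[K] DualNumber K) => q.ofConv p) hdual).symm
  let w' : B →ₗ[K] K := (TrivSqZeroExt.sndHom K K).comp ψ.ofConv.toLinearMap
  have hw'e : w' ∘ₗ (φ : H →ₗc[K] B).toLinearMap = w := LinearMap.ext fun p =>
    (congrArg TrivSqZeroExt.snd (hψφ p)).trans (snd_dualPt hw p)
  have hfst : ∀ p : B, (ψ.ofConv p).fst = Coalgebra.counit (R := K) p := fun p => by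
    obtain ⟨q, rfl⟩ := hφs p
    rw [hψφ, fst_dualPt, CoalgHomClass.counit_comp_apply]
  have hw't : IsTangent K B w' := fun p q => by
    show (ψ.ofConv (p * q)).snd = _
    rw [map_mul, DualNumber.snd_mul, hfst, hfst]
    show _ = Coalgebra.counit (R := K) p * (ψ.ofConv q).snd + Coalgebra.counit (R := K) q * (ψ.ofConv p).snd
    ring
  haveI : IsDomain B := Groth.L24.TorusField.isDomain_of_smooth_connected (k := K) (A := B)
  haveI : IsNoetherianRing B := Algebra.FiniteType.isNoetherianRing K B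
  have hB := gens_map h φ hφs
  have hmat : ∀ v : B →ₗ[K] K, mat (b.map φ) v = mat b (v ∘ₗ (φ : H →ₗc[K] B).toLinearMap) := fun v => rfl
  have hw'c : Cent w' := cent_of_diag_of_commute hB hw't (by rw [hmat, hw'e]; exact hD') fun v hv => by
    rw [hmat, hmat, hw'e]
    refine hc _ ⟨⟨v ∘ₗ (φ : H →ₗc[K] B).toLinearMap, fun p q => ?_, rfl⟩, ?_⟩
    · show v (φ (p * q)) = _
      rw [map_mul, hv]
      simp [CoalgHomClass.counit_comp_apply]
    · show adE (mat b s) _ = 0
      refine adE_eq_zero_of_commute ?_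
      rw [← hs'e]
      exact commute_mat_of_cent h φ hs'c v
  rintro _ ⟨r, rfl⟩
  have := commute_of_factor h e (j ≫ z) φ hφ hw'c (r ≫ t)
  rw [hw'e, Category.assoc, ht] at this
  exact this

end overClosed

variable {k : Type u} [Field k] {A : Type u} [CommRing A] [HopfAlgebra k A] [Algebra.FiniteType k A]
  [Smooth (P k A).hom] [ConnectedSpace (P k A).left]

local notation "KK" => AlgebraicClosure k

/-- a semisimple element with smallest centraliser, commuting with the given torus -/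
theorem exists_adapted (d : GenData k A) (hnall : ¬ ∀ s : A →ₗ[k] k, IsTangent k A s → IsDiagTangent s → Cent s)
    {T₀ : Over (Spec (CommRingCat.of k))} [GrpObj T₀] {i₀ : T₀ ⟶ P k A} (h₀ : Red.IsMaximalTorus i₀) :
    ∃ S : Matrix d.ι d.ι KK, S ∈ lieSub (k := KK) (bcMat (k := k) KK d.a) ∧ DiagM S ∧
      (∀ S' ∈ lieSub (k := KK) (bcMat (k := k) KK d.a), DiagM S' →
        Module.finrank KK (cS (K := KK) (bcMat (k := k) KK d.a) S) ≤ Module.finrank KK (cS (K := KK) (bcMat (k := k) KK d.a) S')) ∧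
      cS (K := KK) (bcMat (k := k) KK d.a) S ≠ lieSub (k := KK) (bcMat (k := k) KK d.a) ∧
      ∀ x ∈ TorIm (bT (K := KK) i₀), Commute (ptMat (bcMat (k := k) KK d.a) (pt x).ofConv) S := by
  classical
  haveI := (smooth_connected_bcP k A KK).1
  haveI := (smooth_connected_bcP k A KK).2
  set b := bcMat (k := k) KK d.a with hbdef
  have hb : Gens KK b := bcMat_gens KK d.gens
  push Not at hnall
  obtain ⟨s₁, hs₁, hd₁, hnc₁⟩ := hnall
  have hD₁ : DiagM ((mat d.a s₁).map (algebraMap k KK)) := diagM_of_isDiagTangent d.gens hd₁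
  have hne₁ : cS b ((mat d.a s₁).map (algebraMap k KK)) ≠ lieSub b := by
    intro e
    refine hnc₁ (cent_of_commute d.gens hs₁ fun φ => ?_)
    have hc : Cent (Groth.L24.TorusField.extK KK s₁) := by
      haveI : IsDomain (KK ⊗[k] A) := isDomain_bc k A KK
      haveI : IsNoetherianRing (KK ⊗[k] A) := Algebra.FiniteType.isNoetherianRing KK (KK ⊗[k] A)
      refine cent_of_diag_of_commute hb (isTangent_extK KK hs₁) (by rw [hbdef, mat_extK]; exact hD₁) fun w hw => ?_
      have hwm : mat b w ∈ cS b ((mat d.a s₁).map (algebraMap k KK)) := e.symm ▸ ⟨w, hw, rfl⟩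
      rw [hbdef, mat_extK]
      exact commute_of_adE hwm.2
    have := commute_of_cent hb hc (Groth.L24.TorusField.extK KK φ)
    rw [hbdef, mat_extK, mat_extK, Commute, SemiconjBy, ← Matrix.map_mul, ← Matrix.map_mul] at this
    exact (Matrix.map_injective (algebraMap k KK).injective this)
  have hex : ∃ m, ∃ S ∈ lieSub b, DiagM S ∧ Module.finrank KK (cS b S) = m :=
    ⟨_, _, map_mem_lieSub KK d.a hs₁, hD₁, rfl⟩
  obtain ⟨S, hS, hD, hrank⟩ := Nat.find_spec hex
  have hmin : ∀ S' ∈ lieSub b, DiagM S' → Module.finrank KK (cS b S) ≤ Module.finrank KK (cS b S') :=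
    fun S' h1 h2 => by rw [hrank]; exact Nat.find_le ⟨S', h1, h2, rfl⟩
  have hne : ∀ S', Module.finrank KK (cS b S') = Module.finrank KK (cS b S) → cS b S' ≠ lieSub (k := KK) b := by
    intro S' hS' e
    refine hne₁ (Submodule.eq_of_le_of_finrank_le inf_le_left ?_)
    show Module.finrank KK (lieSub b) ≤ _
    rw [← e, hS']
    exact hmin _ (map_mem_lieSub KK d.a hs₁) hD₁
  obtain ⟨T, gT, i, hT, hc⟩ := exists_torus_commute hb hS hD (hne S rfl)
  obtain ⟨g, hg⟩ := exists_transp (isMaximalTorus_bT (K := KK) h₀) hT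
  obtain ⟨h1, h2⟩ := ptMat_mul_inv hb (pt g)
  refine ⟨ptMat b (pt g)⁻¹.ofConv * S * ptMat b ((pt g)⁻¹)⁻¹.ofConv, lieSub_conj hb _ hS, ?_, ?_, ?_, ?_⟩
  · rw [inv_inv]; exact hD.conj h2 h1
  · rw [finrank_cS_conj hb]; exact hmin
  · exact hne _ (finrank_cS_conj hb _ S)
  · intro x hx
    have e := hc _ ((hg x).1 hx)
    rw [pt_mul, pt_mul, pt_inv, ptMat_mul hb, ptMat_mul hb] at e
    rw [inv_inv]
    exact commute_conj_of h1 h2 e

end Groth.L20.Dense
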