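import Groth.Agent.L20.Dense.Claim

/-!
# Rational maximal tori are dense, in general
-/

set_option autoImplicit false
set_option backward.isDefEq.respectTransparency false
set_option backward.isDefEq.respectTransparency.types false
set_option linter.style.haveILetI false
set_option linter.unusedSectionVars false

universe u

open CategoryTheory CategoryTheory.Limits MonoidalCategory CartesianMonoidalCategory MonObj AlgebraicGeometry
open TensorProduct WithConv
open Groth.L25.Bridge (P)
open Groth.L08.TorusQuot (sp sp_left toPt toPt_pre SP pre Pt ofPt toPt_ofPt ofPt_toPt)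

noncomputable section

namespace Groth.L20.Dense

open Groth.L08 Groth.L08.AugGraded Groth.L24.TorusField Groth.L20.Unirat

variable {k : Type u} [Field k]

local notation "KK" => AlgebraicClosure k
local notation "θ" => Spec.map (CommRingCat.ofHom (algebraMap k (AlgebraicClosure k)))

theorem injective_of_surjective_sp {A B : Type u} [CommRing A] [HopfAlgebra k A] [IsReduced A] [CommRing B]
    [HopfAlgebra k B] (π : A →ₐc[k] B) [h : Surjective (sp π).left] : Function.Injective π := by
  refine (injective_iff_map_eq_zero (π : A →+* B)).2 fun x hx => ?_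
  refine IsReduced.eq_zero x (nilpotent_iff_mem_prime.2 fun I hI => ?_)
  obtain ⟨q, hq⟩ := (sp π).left.surjective (⟨I, hI⟩ : PrimeSpectrum A)
  have hq' : Ideal.comap (π : A →+* B) q.asIdeal = I := congrArg PrimeSpectrum.asIdeal hq
  rw [← hq', Ideal.mem_comap, hx]
  exact Ideal.zero_mem _

/-- **conjugates of a maximal torus into rational maximal tori are dense** -/
theorem tdense [Infinite k] : ∀ (n : ℕ) (A : Type u) [CommRing A] [HopfAlgebra k A] [Algebra.FiniteType k A]
    [Smooth (P k A).hom] [ConnectedSpace (P k A).left],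
    topologicalKrullDim (P k A).left ≤ (n : WithBot ℕ∞) → TDense k A := by
  intro n
  induction n using Nat.strong_induction_on with
  | _ n ih =>
  intro A _ _ _ _ _ hn T₀ _ i₀ h₀ a ha
  classical
  haveI : IsAffineHom (P k A).hom := inferInstance
  haveI := (smooth_connected_bcP k A KK).1
  haveI := (smooth_connected_bcP k A KK).2
  haveI : IsDomain (KK ⊗[k] A) := isDomain_bc k A KK
  obtain ⟨Q, gQ, q, hqm, hQa, hQs, hQc, hqs, hdim, hkc, hQ⟩ := exists_central_quotient (P k A)
  haveI := hqm; haveI := hQa; haveI := hQs; haveI := hQc; haveI := hqs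
  obtain ⟨A', _, _, e, he, he', _, _, _⟩ := exists_hopfData Q
  haveI := he; haveI := he'
  haveI : IsIso e.hom.left := inferInstanceAs (IsIso ((Over.forget _).map e.hom))
  obtain ⟨π, hπ⟩ := Groth.L08.TorusQuot.exists_sp (q ≫ e.hom)
  haveI : Surjective (sp π).left := by rw [hπ, Over.comp_left]; infer_instance
  haveI := (smooth_connected_bcP k A' KK).1
  haveI := (smooth_connected_bcP k A' KK).2
  haveI : IsDomain A' := Groth.L24.TorusField.isDomain_of_smooth_connected (k := k) (A := A')
  have hker : ∀ (X : Over (Spec (CommRingCat.of k))) (z : X ⟶ P k A), z ≫ sp π = 1 →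
      ∀ (X' : Over (Spec (CommRingCat.of k))) (x : X' ⟶ X) (g : X' ⟶ P k A), (x ≫ z) * g = g * (x ≫ z) :=
    fun X z hz => hkc X z (by rw [← cancel_mono e.hom, Category.assoc, ← hπ, hz, MonObj.one_comp])
  have hinj : Function.Injective (mapK KK π : KK ⊗[k] A' →ₐ[KK] KK ⊗[k] A) := by
    have h : Function.Injective ((π : A' →ₐ[k] A).toLinearMap.lTensor KK) :=
      Module.Flat.lTensor_preserves_injective_linearMap _ (injective_of_surjective_sp π)
    have e2 : ∀ x, (mapK KK π : KK ⊗[k] A' →ₐ[KK] KK ⊗[k] A) x = (π : A' →ₐ[k] A).toLinearMap.lTensor KK x := by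
      intro x
      induction x using TensorProduct.induction_on with
      | zero => simp
      | add p r hp hr => simp only [map_add, hp, hr]
      | tmul c p => rfl
    intro x y hxy
    exact h (by rw [← e2, ← e2, hxy])
  obtain ⟨a', ha', hlift⟩ := exists_open_image (mapK KK π : KK ⊗[k] A' →ₐ[KK] KK ⊗[k] A) hinj ha
  obtain ⟨T₀', gT₀', i₀', v₀, h₀', hv₀m, hv₀, -, -⟩ := Groth.L08.Borel.exists_image_maximalTorus (sp π)
    (fun s => Groth.L08.Borel.surjective_bcMap _ (sp π)) h₀
  haveI := h₀'.1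
  have hdimA : topologicalKrullDim (P k A').left ≤ (n : WithBot ℕ∞) := by
    rw [← e.hom.left.homeomorph.isHomeomorph.topologicalKrullDim_eq]
    exact hdim.trans hn
  obtain ⟨T', gT', iT', g', hT', hga', hg'⟩ := tdense_core (NoCentralMult.of_iso hQ e)
    (fun B _ _ _ _ _ hlt => by
      obtain ⟨m, -, hm⟩ := Groth.L08.GrpDim.exists_dim (G := P k B)
      have hmn : m < n := by
        have h1 : (m : WithBot ℕ∞) < (n : WithBot ℕ∞) := hm ▸ lt_of_lt_of_le hlt hdimA
        exact_mod_cast h1
      exact ih m hmn B hm.le) T₀' i₀' h₀' a' ha'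
  obtain ⟨x, hxa, hx⟩ := hlift _ hga'
  obtain ⟨g, hg⟩ := pt_surjective (toConv x)
  have hgg : g ≫ sp (mapK KK π) = g' := pt_injective (by
    rw [pt_comp_sp, hg]
    exact WithConv.ofConv_injective hx)
  obtain ⟨T, gT, i, v, hT, hvm, hv, hvs, -⟩ := Groth.L08.Borel.exists_lift_maximalTorus
    (hasMaxTorus_of_maximalTorus h₀) (sp π) (fun s => Groth.L08.Borel.surjective_bcMap _ (sp π)) hker hT'
  refine ⟨T, gT, i, g, hT, by rw [hg]; exact hxa, ?_⟩
  haveI := hT.1; haveI := hT'.1; haveI := h₀.1
  have hbT := isMaximalTorus_bT (K := KK) hT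
  refine transp_of_commute (isMaximalTorus_bT (K := KK) h₀) hbT g fun t t' => ?_
  haveI := hbT.1
  haveI := hvs
  haveI : Surjective ((Over.pullback θ).map v).left := Groth.L08.Borel.surjective_bcMap θ v
  obtain ⟨-, a2, -, -, acomm⟩ := Groth.L08.Borel.torus_props hbT.2.2.1
  obtain ⟨-, b2, -, -, -⟩ := Groth.L08.Borel.torus_props (isMaximalTorus_bT (K := KK) hT').2.2.1
  haveI := a2; haveI := b2
  let p := g * (t ≫ bT (K := KK) i₀) * g⁻¹
  have hp : p ≫ sp (mapK KK π) = g' * ((t ≫ (Over.pullback θ).map v₀) ≫ bT (K := KK) i₀') * g'⁻¹ := by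
    simp only [p, MonObj.mul_comp, GrpObj.inv_comp, Category.assoc, hgg]
    rw [← bT_comp, ← bT_precomp, hv₀]
  obtain ⟨r, hr⟩ := (hg' ((t ≫ (Over.pullback θ).map v₀) ≫ bT (K := KK) i₀')).1 ⟨_, rfl⟩
  obtain ⟨s, hs⟩ := Groth.L08.Borel.exists_pt_lift ((Over.pullback θ).map v) r
    (((Over.pullback θ).map v).left.surjective _)
  have hz : (p * (s ≫ bT (K := KK) i)⁻¹) ≫ sp (mapK KK π) = 1 := by
    rw [MonObj.mul_comp, GrpObj.inv_comp, hp, Category.assoc s, ← bT_comp, ← hv, bT_precomp, ← Category.assoc s, hs,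
      ← hr, mul_inv_cancel]
  have hcent : ∀ y, (p * (s ≫ bT (K := KK) i)⁻¹) * y = y * (p * (s ≫ bT (K := KK) i)⁻¹) := by
    intro y
    haveI : IsMonHom ((Over.pullback θ).map (sp π)) := Groth.L25.MonoClosed.isMonHom_pullbackMap _ _
    have e1 := Groth.L08.Borel.central_kernel_bc θ (sp π) hker _
      ((p * (s ≫ bT (K := KK) i)⁻¹) ≫ (bcP k A KK).inv) (by
        rw [← cancel_mono (bcP k A' KK).hom, Category.assoc, Category.assoc, bcP_natural, Iso.inv_hom_id_assoc,
          hz, MonObj.one_comp]) _ (𝟙 _) (y ≫ (bcP k A KK).inv)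
    rw [Category.id_comp, ← MonObj.mul_comp, ← MonObj.mul_comp] at e1
    exact (cancel_mono _).1 e1
  have hcs : (s ≫ bT (K := KK) i) * (t' ≫ bT (K := KK) i) = (t' ≫ bT (K := KK) i) * (s ≫ bT (K := KK) i) := by
    rw [← MonObj.mul_comp, ← MonObj.mul_comp, acomm]
  show p * _ = _ * p
  rw [show p = (p * (s ≫ bT (K := KK) i)⁻¹) * (s ≫ bT (K := KK) i) by rw [inv_mul_cancel_right],
    _root_.mul_assoc, hcs, ← _root_.mul_assoc, hcent, _root_.mul_assoc]

end Groth.L20.Dense
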