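import Groth.Agent.S4585
import Mathlib.RingTheory.Localization.Away.AdjoinRoot
import Mathlib.RingTheory.Jacobson.Ring
import Mathlib.FieldTheory.IsAlgClosed.Basic
import Mathlib.FieldTheory.Perfect
import Mathlib.Algebra.MvPolynomial.PDeriv
import Mathlib.Algebra.CharP.Algebra
import Mathlib.LinearAlgebra.Matrix.NonsingularInverse

/-!
# Dominant polynomial maps and the points in their images
-/

set_option autoImplicit false
set_option linter.style.haveILetI false

universe u

noncomputable section

namespace Groth.L20.Dense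

variable {K : Type u} [Field K] [IsAlgClosed K]

/-- every maximal ideal of a finitely generated algebra is the kernel of a point -/
theorem exists_pt {R : Type u} [CommRing R] [Algebra K R] [Algebra.FiniteType K R] (m : Ideal R) [m.IsMaximal] :
    ∃ x : R →ₐ[K] K, ∀ r ∈ m, x r = 0 := by
  letI : Field (R ⧸ m) := Ideal.Quotient.field m
  haveI : Module.Finite K (R ⧸ m) := finite_of_finite_type_of_isJacobsonRing K (R ⧸ m)
  let e : K ≃ₐ[K] R ⧸ m := AlgEquiv.ofBijective (Algebra.ofId K (R ⧸ m))
    (IsAlgClosed.algebraMap_bijective_of_isIntegral (k := K) (K := R ⧸ m))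
  refine ⟨e.symm.toAlgHom.comp (Ideal.Quotient.mkₐ K m), fun r hr => ?_⟩
  show e.symm (Ideal.Quotient.mk m r) = 0
  rw [Ideal.Quotient.eq_zero_iff_mem.2 hr, map_zero]

/-- points separate elements of a finitely generated domain -/
theorem exists_pt_ne_zero {R : Type u} [CommRing R] [Algebra K R] [Algebra.FiniteType K R] [IsDomain R] {F : R}
    (hF : F ≠ 0) : ∃ x : R →ₐ[K] K, x F ≠ 0 := by
  haveI : Algebra.FiniteType K (Localization.Away F) := inferInstance
  haveI : Nontrivial (Localization.Away F) := (IsLocalization.injective (Localization.Away F)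
    (powers_le_nonZeroDivisors_of_noZeroDivisors hF)).nontrivial
  obtain ⟨m, hm⟩ := Ideal.exists_maximal (Localization.Away F)
  obtain ⟨x, -⟩ := exists_pt (K := K) m
  refine ⟨x.comp (IsScalarTower.toAlgHom K R (Localization.Away F)), ?_⟩
  exact (IsUnit.map x (IsLocalization.Away.algebraMap_isUnit F)).ne_zero

/-- **the image of an open set under a dominant map contains an open set** -/
theorem exists_open_image {S R : Type u} [CommRing S] [Algebra K S] [CommRing R] [Algebra K R]
    [Algebra.FiniteType K R] [IsDomain R] (φ : S →ₐ[K] R) (hφ : Function.Injective φ) {F : R} (hF : F ≠ 0) :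
    ∃ h : S, h ≠ 0 ∧ ∀ y : S →ₐ[K] K, y h ≠ 0 → ∃ x : R →ₐ[K] K, x F ≠ 0 ∧ x.comp φ = y := by
  haveI : IsDomain S := hφ.isDomain
  letI : Algebra S R := φ.toRingHom.toAlgebra
  haveI : IsScalarTower K S R := IsScalarTower.of_algebraMap_eq fun c => (φ.commutes c).symm
  let R' := Localization.Away F
  haveI : Algebra.FiniteType K R' := inferInstance
  haveI : Algebra.FiniteType S R' := Algebra.FiniteType.of_restrictScalars_finiteType K S R'
  have hinjR : Function.Injective (algebraMap R R') :=
    IsLocalization.injective R' (powers_le_nonZeroDivisors_of_noZeroDivisors hF)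
  haveI : IsDomain R' := IsLocalization.isDomain_of_le_nonZeroDivisors (S := R') (powers_le_nonZeroDivisors_of_noZeroDivisors hF)
  have hinjS : Function.Injective (algebraMap S R') := by
    rw [IsScalarTower.algebraMap_eq S R R']
    exact hinjR.comp hφ
  obtain ⟨h, hh, hmem⟩ := Groth.Agent.S4585.exists_basicOpen_subset_range (A := S) (B := R') ⟨⊥, Ideal.isPrime_bot⟩
    ⟨⟨⊥, Ideal.isPrime_bot⟩, PrimeSpectrum.ext (by
      show Ideal.comap (algebraMap S R') ⊥ = ⊥
      rw [← RingHom.ker_eq_comap_bot, (RingHom.injective_iff_ker_eq_bot _).1 hinjS])⟩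
  refine ⟨h, fun e => hh (e ▸ zero_mem _), fun y hy => ?_⟩
  haveI : (RingHom.ker y).IsPrime := RingHom.ker_isPrime _
  obtain ⟨Q, hQ⟩ := hmem ⟨RingHom.ker y, inferInstance⟩ bot_le hy
  obtain ⟨m, hm, hQm⟩ := Ideal.exists_le_maximal Q.asIdeal Q.2.ne_top
  obtain ⟨x, hx⟩ := exists_pt (K := K) m
  refine ⟨x.comp (IsScalarTower.toAlgHom K R R'),
    (IsUnit.map x (IsLocalization.Away.algebraMap_isUnit F)).ne_zero, AlgHom.ext fun s => ?_⟩
  have hs : s - algebraMap K S (y s) ∈ RingHom.ker y := by
    rw [RingHom.mem_ker, map_sub, AlgHom.commutes]; exact sub_self _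
  have hs' : algebraMap S R' (s - algebraMap K S (y s)) ∈ Q.asIdeal := by
    have hQ' : Ideal.comap (algebraMap S R') Q.asIdeal = RingHom.ker y := congrArg PrimeSpectrum.asIdeal hQ
    rw [← hQ'] at hs
    exact hs
  have h0 := hx _ (hQm hs')
  rw [map_sub, map_sub, ← IsScalarTower.algebraMap_apply, AlgHom.commutes, sub_eq_zero] at h0
  show x (algebraMap R R' (φ s)) = y s
  exact h0.trans rfl

/-- chain rule for a linear map satisfying the Leibniz rule -/
theorem leibniz_aeval {R : Type u} [CommRing R] [Algebra K R] (D : R →ₗ[K] R)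
    (hD : ∀ a b, D (a * b) = a * D b + b * D a) {n : ℕ} (f : Fin n → R) (P : MvPolynomial (Fin n) K) :
    D (MvPolynomial.aeval f P) = ∑ i, MvPolynomial.aeval f (MvPolynomial.pderiv i P) * D (f i) := by
  classical
  have h1 : D 1 = 0 := by simpa using hD 1 1
  induction P using MvPolynomial.induction_on with
  | C c => simp [Algebra.algebraMap_eq_smul_one, h1]
  | add p q hp hq => simp only [map_add, hp, hq, add_mul, Finset.sum_add_distrib]
  | mul_X p j hp =>
    rw [map_mul, MvPolynomial.aeval_X, hD, hp, Finset.mul_sum]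
    simp only [MvPolynomial.pderiv_mul, MvPolynomial.pderiv_X, map_add, map_mul, MvPolynomial.aeval_X, add_mul,
      Finset.sum_add_distrib]
    rw [add_comm]
    congr 1
    · exact Finset.sum_congr rfl fun i _ => by ring
    · rw [Finset.sum_eq_single j (fun i _ hij => by simp [Pi.single_eq_of_ne' hij]) (by simp)]
      simp

/-- **a map with bijective differential at one point is dominant** -/
theorem injective_aeval_of_leibniz {R : Type u} [CommRing R] [Algebra K R] [IsDomain R] {n : ℕ} (f : Fin n → R)
    (D : Fin n → R →ₗ[K] R) (hD : ∀ j a b, D j (a * b) = a * D j b + b * D j a) (pt : R →ₐ[K] K)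
    (hdet : (Matrix.of fun i j => pt (D j (f i))).det ≠ 0) :
    Function.Injective (MvPolynomial.aeval f : MvPolynomial (Fin n) K →ₐ[K] R) := by
  classical
  let M : Matrix (Fin n) (Fin n) R := Matrix.of fun i j => D j (f i)
  have hM : M.det ≠ 0 := fun e => hdet (by
    have := congrArg pt e
    rwa [map_zero, AlgHom.map_det] at this)
  refine (injective_iff_map_eq_zero _).2 fun P hP => ?_
  induction hd : P.totalDegree using Nat.strong_induction_on generalizing P with
  | _ d ih =>
  subst hd
  have hv : ∀ i, MvPolynomial.pderiv i P = 0 := by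
    intro i
    have h0 : ∀ j, ∑ i, MvPolynomial.aeval f (MvPolynomial.pderiv i P) * D j (f i) = 0 := fun j => by
      rw [← leibniz_aeval (D j) (hD j) f P, hP, map_zero]
    have hv0 : (fun i => MvPolynomial.aeval f (MvPolynomial.pderiv i P)) = 0 :=
      Matrix.eq_zero_of_vecMul_eq_zero hM (funext fun j => h0 j)
    by_cases hz : MvPolynomial.pderiv i P = 0
    · exact hz
    exact ih _ (lt_of_lt_of_le (Nat.lt_succ_self _) (by
      rw [MvPolynomial.totalDegree]
      obtain ⟨t, ht, hte⟩ := Finset.exists_mem_eq_sup _ (MvPolynomial.support_nonempty.2 hz)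
        (fun s : Fin n →₀ ℕ => s.sum fun _ e => e)
      rw [Nat.succ_eq_add_one, hte]
      rw [MvPolynomial.mem_support_iff, MvPolynomial.coeff_pderiv] at ht
      have hmem : t + Finsupp.single i 1 ∈ P.support :=
        MvPolynomial.mem_support_iff.2 (left_ne_zero_of_mul ht)
      refine le_trans (le_of_eq ?_) (MvPolynomial.le_totalDegree hmem)
      rw [Finsupp.sum_add_index' (fun _ => rfl) (fun _ _ _ => rfl), Finsupp.sum_single_index rfl])) _ (congrFun hv0 i) rfl
  have hs : ∀ s ∈ P.support, ∀ i, (s i : K) = 0 := by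
    intro s hs i
    rcases Nat.eq_zero_or_pos (s i) with h0 | hpos
    · simp [h0]
    have e := congrArg (fun Q => MvPolynomial.coeff (s - Finsupp.single i 1) Q) (hv i)
    simp only [MvPolynomial.coeff_pderiv, MvPolynomial.coeff_zero] at e
    have hle : Finsupp.single i 1 ≤ s := Finsupp.single_le_iff.2 hpos
    rw [tsub_add_cancel_of_le hle] at e
    have e2 := (mul_eq_zero.1 e).resolve_left (MvPolynomial.mem_support_iff.1 hs)
    rw [Finsupp.tsub_apply, Finsupp.single_eq_same] at e2
    rw [← Nat.sub_add_cancel hpos]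
    push_cast at e2 ⊢
    exact e2
  obtain ⟨p, hp⟩ := CharP.exists K
  rcases Nat.eq_zero_or_pos p with rfl | hppos
  · haveI : CharZero K := CharP.charP_to_charZero K
    have hC : P = MvPolynomial.C (MvPolynomial.coeff 0 P) := by
      refine MvPolynomial.ext _ _ fun s => ?_
      rw [MvPolynomial.coeff_C]
      split_ifs with h0
      · rw [← h0]
      · by_contra hne
        refine h0 (Finsupp.ext fun i => ?_)
        exact (Nat.cast_eq_zero.1 (hs s (MvPolynomial.mem_support_iff.2 hne) i)).symm
    rw [hC, MvPolynomial.aeval_C] at hP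
    rw [hC, (map_eq_zero_iff _ (algebraMap K R).injective).1 hP, map_zero]
  · haveI : Fact p.Prime := ⟨(CharP.char_is_prime_or_zero K p).resolve_right hppos.ne'⟩
    haveI : ExpChar K p := ExpChar.prime (Fact.out)
    haveI : CharP (MvPolynomial (Fin n) K) p :=
      charP_of_injective_algebraMap (MvPolynomial.C_injective (Fin n) K) p
    haveI : ExpChar (MvPolynomial (Fin n) K) p := ExpChar.prime (Fact.out)
    haveI : CharP R p := charP_of_injective_algebraMap (algebraMap K R).injective p
    let Q : MvPolynomial (Fin n) K := ∑ s ∈ P.support,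
      MvPolynomial.monomial (s.mapRange (· / p) (Nat.zero_div p)) ((frobeniusEquiv K p).symm (P.coeff s))
    have hQ : Q ^ p = P := by
      rw [sum_pow_char p]
      conv_rhs => rw [P.as_sum]
      refine Finset.sum_congr rfl fun s hs' => ?_
      rw [MvPolynomial.monomial_pow, frobeniusEquiv_symm_pow_p]
      rw [MvPolynomial.monomial_eq_monomial_iff]
      refine Or.inl ⟨Finsupp.ext fun i => ?_, rfl⟩
      simp only [Finsupp.smul_apply, Finsupp.mapRange_apply, smul_eq_mul]
      exact Nat.mul_div_cancel' ((CharP.cast_eq_zero_iff K p _).1 (hs s hs' i))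
    by_cases hd0 : P.totalDegree = 0
    · rw [MvPolynomial.totalDegree_eq_zero_iff_eq_C] at hd0
      rw [hd0, MvPolynomial.aeval_C] at hP
      rw [hd0, (map_eq_zero_iff _ (algebraMap K R).injective).1 hP, map_zero]
    have hQ0 : MvPolynomial.aeval f Q = 0 := pow_eq_zero_iff (Fact.out : p.Prime).ne_zero |>.1
      (by rw [← map_pow, hQ, hP])
    have hlt : Q.totalDegree < P.totalDegree := by
      refine lt_of_le_of_lt ?_ (Nat.div_lt_self (Nat.pos_of_ne_zero hd0) (Fact.out : p.Prime).one_lt)
      refine (MvPolynomial.totalDegree_finsetSum _ _).trans (Finset.sup_le fun s hs' => ?_)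
      refine (MvPolynomial.totalDegree_monomial_le _ _).trans ?_
      rw [Nat.le_div_iff_mul_le hppos]
      refine le_trans (le_of_eq ?_) (MvPolynomial.le_totalDegree hs')
      rw [Finsupp.sum_mapRange_index (fun _ => rfl), Finsupp.sum, Finsupp.sum, Finset.sum_mul]
      exact Finset.sum_congr rfl fun i _ => Nat.div_mul_cancel ((CharP.cast_eq_zero_iff K p _).1 (hs s hs' i))
    rw [← hQ, ih _ hlt Q hQ0 rfl, zero_pow (Fact.out : p.Prime).ne_zero]

end Groth.L20.Dense
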