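import Groth.Agent.L20.Unir.Families
import Groth.Agent.L08.Borel.CentKernel
import Groth.Agent.L08.Borel.CommTorusGlobal
import Groth.Agent.L08.Borel.Orbit
import Groth.Agent.L24.TorusField.Main

/-!
# Rational points over an algebraically closed field and maximal tori
-/

set_option autoImplicit false
set_option backward.isDefEq.respectTransparency false
set_option backward.isDefEq.respectTransparency.types false
set_option linter.style.haveILetI false
set_option linter.unusedSectionVars false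

universe u

open CategoryTheory CategoryTheory.Limits MonoidalCategory CartesianMonoidalCategory MonObj AlgebraicGeometry
open TensorProduct WithConv
open Groth.L25.Bridge (P)
open Groth.L08.TorusQuot (sp sp_left toPt toPt_pre SP pre Pt ofPt)
open Groth.L25.NilAction (toBase ofBase toBase_ofBase)

noncomputable section

namespace Groth.L20.Dense

local notation "U1" => 𝟙_ (Over (Spec (CommRingCat.of _)))

section points

variable {K : Type u} [Field K]

variable (K) in
/-- the rational point of the base -/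
def e0 : SP K K ⟶ 𝟙_ (Over (Spec (CommRingCat.of K))) := Over.homMk (𝟙 _) (by
  show 𝟙 _ ≫ 𝟙 _ = Spec.map (CommRingCat.ofHom (algebraMap K K))
  rw [Category.comp_id, Algebra.algebraMap_self]
  exact (Spec.map_id _).symm)

instance : IsIso (e0 K) := by
  haveI : IsIso ((Over.forget _).map (e0 K)) := inferInstanceAs (IsIso (𝟙 (Spec (CommRingCat.of K))))
  exact isIso_of_reflects_iso _ (Over.forget _)

variable {H : Type u} [CommRing H] [HopfAlgebra K H]

/-- the algebra map of a rational point -/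
def pt (g : 𝟙_ (Over (Spec (CommRingCat.of K))) ⟶ P K H) : Pt K H K := ofPt (e0 K ≫ g)

theorem pt_mul (g g' : 𝟙_ (Over (Spec (CommRingCat.of K))) ⟶ P K H) : pt (g * g') = pt g * pt g' := by
  rw [pt, MonObj.comp_mul]; exact map_mul _ _ _

theorem pt_one : pt (1 : 𝟙_ (Over (Spec (CommRingCat.of K))) ⟶ P K H) = 1 := by
  rw [pt, MonObj.comp_one]; exact map_one _

theorem pt_inv (g : 𝟙_ (Over (Spec (CommRingCat.of K))) ⟶ P K H) : pt g⁻¹ = (pt g)⁻¹ :=
  eq_inv_of_mul_eq_one_left (by rw [← pt_mul, inv_mul_cancel, pt_one])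

theorem pt_injective : Function.Injective (pt (K := K) (H := H)) := fun a b h => by
  have h2 := congrArg (fun x => toPt x) h
  simp only [pt, Groth.L08.TorusQuot.toPt_ofPt] at h2
  exact (cancel_epi (e0 K)).1 h2

theorem pt_surjective (χ : Pt K H K) : ∃ g, pt g = χ :=
  ⟨inv (e0 K) ≫ toPt χ, by rw [pt, IsIso.hom_inv_id_assoc, Groth.L08.TorusQuot.ofPt_toPt]⟩

theorem pt_comp_sp {B : Type u} [CommRing B] [HopfAlgebra K B] (φ : H →ₐc[K] B)
    (x : 𝟙_ (Over (Spec (CommRingCat.of K))) ⟶ P K B) : pt (x ≫ sp φ) = pre φ (pt x) := by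
  apply (Spec.mapMulEquiv (R := K) (S := H) (T := K)).injective
  show toPt (pt (x ≫ sp φ)) = toPt (pre φ (pt x))
  rw [toPt_pre, pt, pt, Groth.L08.TorusQuot.toPt_ofPt, Groth.L08.TorusQuot.toPt_ofPt, Category.assoc]

/-- the rational points in the image -/
def TorIm {G T : Over (Spec (CommRingCat.of K))} (i : T ⟶ G) : Set (𝟙_ (Over (Spec (CommRingCat.of K))) ⟶ G) :=
  {x | ∃ t, t ≫ i = x}

/-- conjugation by the point carries one image onto the other -/
def Transp {G T T' : Over (Spec (CommRingCat.of K))} [GrpObj G] (g : 𝟙_ (Over (Spec (CommRingCat.of K))) ⟶ G)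
    (i : T ⟶ G) (i' : T' ⟶ G) : Prop :=
  ∀ x, x ∈ TorIm i ↔ g * x * g⁻¹ ∈ TorIm i'

variable {G T T' T'' : Over (Spec (CommRingCat.of K))} [GrpObj G]

theorem Transp.trans {g h : 𝟙_ (Over (Spec (CommRingCat.of K))) ⟶ G} {i : T ⟶ G} {i' : T' ⟶ G} {i'' : T'' ⟶ G}
    (h1 : Transp g i i') (h2 : Transp h i' i'') : Transp (h * g) i i'' := fun x => by
  rw [h1 x, h2 (g * x * g⁻¹)]
  group

theorem Transp.symm {g : 𝟙_ (Over (Spec (CommRingCat.of K))) ⟶ G} {i : T ⟶ G} {i' : T' ⟶ G}
    (h1 : Transp g i i') : Transp g⁻¹ i' i := fun x => by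
  rw [h1 (g⁻¹ * x * g⁻¹⁻¹)]
  group

theorem Transp.comp {C : Over (Spec (CommRingCat.of K))} [GrpObj C] (c : C ⟶ G) [IsMonHom c] [Mono c]
    {g : 𝟙_ (Over (Spec (CommRingCat.of K))) ⟶ C} {i : T ⟶ C} {i' : T' ⟶ C} (h1 : Transp g i i') :
    Transp (g ≫ c) (i ≫ c) (i' ≫ c) := fun x => by
  have e : ∀ y, g ≫ c * (y ≫ c) * (g ≫ c)⁻¹ = (g * y * g⁻¹) ≫ c := fun y => by
    rw [MonObj.mul_comp, MonObj.mul_comp, GrpObj.inv_comp]
  constructor
  · rintro ⟨t, rfl⟩
    obtain ⟨t', ht'⟩ := (h1 (t ≫ i)).1 ⟨t, rfl⟩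
    exact ⟨t', by rw [← Category.assoc, ← Category.assoc, e, ht']⟩
  · rintro ⟨t', ht'⟩
    have hx : x = ((g⁻¹ * (t' ≫ i') * g) ≫ c) := by
      rw [MonObj.mul_comp, MonObj.mul_comp, GrpObj.inv_comp, Category.assoc, ht']
      group
    obtain ⟨t, ht⟩ := (h1 (g⁻¹ * (t' ≫ i') * g)).2 ⟨t', by group⟩
    exact ⟨t, by rw [← Category.assoc, ht, ← hx]⟩

end points

section tori

variable {K : Type u} [Field K] [IsAlgClosed K] {G T T' : Over (Spec (CommRingCat.of K))} [GrpObj G] [GrpObj T]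
  [GrpObj T'] [Smooth G.hom] [QuasiCompact G.hom]

/-- **maximal tori are conjugate on points** -/
theorem exists_transp {i : T ⟶ G} {i' : T' ⟶ G} (hT : Red.IsMaximalTorus i) (hT' : Red.IsMaximalTorus i') :
    ∃ g, Transp g i i' := by
  obtain ⟨g, f, hf⟩ := Groth.L08.Borel.exists_maxTorus_conj_any
    (Groth.L08.Borel.isMaxTorus_of_isMaximalTorus hT) (Groth.L08.Borel.isMaxTorus_of_isMaximalTorus hT')
  refine ⟨g, fun x => ?_⟩
  have e : ∀ t : 𝟙_ (Over (Spec (CommRingCat.of K))) ⟶ T, (t ≫ f.hom) ≫ i' = g * (t ≫ i) * g⁻¹ := fun t => by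
    rw [Category.assoc, hf, AGF.conjBy, MonObj.comp_mul, MonObj.comp_mul, GrpObj.comp_inv,
      ← Category.assoc t (toUnit T) g, toUnit_unique (t ≫ toUnit T) (𝟙 _), Category.id_comp]
  constructor
  · rintro ⟨t, rfl⟩
    exact ⟨_, e t⟩
  · rintro ⟨t', ht'⟩
    refine ⟨t' ≫ f.inv, ?_⟩
    have e' := e (t' ≫ f.inv)
    rw [Category.assoc t', Iso.inv_hom_id, Category.comp_id, ht'] at e'
    exact (mul_left_cancel (mul_right_cancel e')).symm

theorem conjTorus_pt {i : T ⟶ G} (g : 𝟙_ (Over (Spec (CommRingCat.of K))) ⟶ G)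
    (t : 𝟙_ (Over (Spec (CommRingCat.of K))) ⟶ T) :
    t ≫ ((toUnit T ≫ g) * i * (toUnit T ≫ g)⁻¹) = g * (t ≫ i) * g⁻¹ := by
  rw [MonObj.comp_mul, MonObj.comp_mul, GrpObj.comp_inv, ← Category.assoc t (toUnit T) g,
    toUnit_unique (t ≫ toUnit T) (𝟙 _), Category.id_comp]

/-- two maximal tori, one inside the other -/
theorem transp_of_factor {i : T ⟶ G} {i' : T' ⟶ G} (hT : Red.IsMaximalTorus i) (hT' : Red.IsMaximalTorus i')
    (g : 𝟙_ (Over (Spec (CommRingCat.of K))) ⟶ G) (f : T ⟶ T')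
    (hf : f ≫ i' = (toUnit T ≫ g) * i * (toUnit T ≫ g)⁻¹) : Transp g i i' := by
  have hi := Groth.L08.Borel.isMaxTorus_of_isMaximalTorus (Groth.L08.Borel.isMaximalTorus_conj hT g)
  haveI := hT'.1; haveI := hT'.2.1
  haveI := hi.1; haveI := hi.2.1
  haveI : IsIso f := hi.2.2.2 T' i' f hT'.2.2.1 hf
  intro x
  constructor
  · rintro ⟨t, rfl⟩
    exact ⟨t ≫ f, by rw [Category.assoc, hf, conjTorus_pt]⟩
  · rintro ⟨t', ht'⟩
    refine ⟨t' ≫ inv f, ?_⟩
    have e : (t' ≫ inv f) ≫ f ≫ i' = g * x * g⁻¹ := by rw [Category.assoc, IsIso.inv_hom_id_assoc, ht']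
    rw [hf, conjTorus_pt] at e
    exact mul_left_cancel (mul_right_cancel e)

/-- commuting maximal tori are equal -/
theorem transp_of_commute {i : T ⟶ G} {i' : T' ⟶ G} (hT : Red.IsMaximalTorus i) (hT' : Red.IsMaximalTorus i')
    (g : 𝟙_ (Over (Spec (CommRingCat.of K))) ⟶ G)
    (hc : ∀ t t', (g * (t ≫ i) * g⁻¹) * (t' ≫ i') = (t' ≫ i') * (g * (t ≫ i) * g⁻¹)) : Transp g i i' := by
  obtain ⟨j, hjdef⟩ : ∃ j, j = (toUnit T ≫ g) * i * (toUnit T ≫ g)⁻¹ := ⟨_, rfl⟩
  have hj : Red.IsMaximalTorus j := hjdef ▸ Groth.L08.Borel.isMaximalTorus_conj hT g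
  haveI := hj.1
  obtain ⟨a1, a2, a3, -, -⟩ := Groth.L08.Borel.torus_props hT.2.2.1
  obtain ⟨b1, b2, b3, -, -⟩ := Groth.L08.Borel.torus_props hT'.2.2.1
  haveI := a2; haveI := b2
  haveI : IsSeparated G.hom := Groth.L08.AbelianGrp.isSeparated G
  haveI : Smooth (T' ⊗ T).hom := inferInstanceAs (Smooth (pullback.fst T'.hom T.hom ≫ T'.hom))
  haveI : IsReduced (T' ⊗ T).left := Groth.Agent.AV.isReduced_of_smooth_field (T' ⊗ T).hom
  have key : (fst T' T ≫ i') * (snd T' T ≫ j) = (snd T' T ≫ j) * (fst T' T ≫ i') :=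
    Groth.L08.Borel.hom_ext_pts _ _ fun p => by
      rw [MonObj.comp_mul, MonObj.comp_mul, ← Category.assoc p (fst T' T) i', ← Category.assoc p (snd T' T) j, hjdef, conjTorus_pt]
      exact (hc _ _).symm
  haveI : LocallyOfFinitePresentation G.hom := inferInstance
  obtain ⟨f, hf⟩ := Groth.L08.Borel.exists_fac_of_commute hT' j hT.2.2.1 fun X t r => by
    have e := congrArg (lift t r ≫ ·) key
    simpa only [MonObj.comp_mul, lift_fst_assoc, lift_snd_assoc] using e
  exact transp_of_factor hT hT' g f (hf.trans hjdef)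

end tori

section baseChange

variable (k : Type u) [Field k] (A : Type u) [CommRing A] [HopfAlgebra k A] (K : Type u) [Field K] [Algebra k K]

local notation "θ" => Spec.map (CommRingCat.ofHom (algebraMap k K))

/-- the point of the base -/
def e1 : Over.mk ((𝟙_ (Over (Spec (CommRingCat.of K)))).hom ≫ θ) ⟶ SP k K :=
  Over.homMk (𝟙 _) (by
    show 𝟙 _ ≫ Spec.map (CommRingCat.ofHom (algebraMap k K)) = 𝟙 _ ≫ Spec.map _
    rfl)

variable {k A K}

/-- the restriction of a point to the original algebra -/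
def res (χ : Pt K (K ⊗[k] A) K) : A →ₐ[k] K :=
  (χ.ofConv.restrictScalars k).comp Algebra.TensorProduct.includeRight

theorem res_injective : Function.Injective (res (k := k) (A := A) (K := K)) := fun χ χ' h => by
  refine WithConv.ofConv_injective (Algebra.TensorProduct.ext (Subsingleton.elim _ _) (AlgHom.ext fun a => ?_))
  exact DFunLike.congr_fun h a

theorem res_mul (χ χ' : Pt K (K ⊗[k] A) K) :
    (toConv (res (χ * χ')) : Pt k A K) = toConv (res χ) * toConv (res χ') := by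
  refine WithConv.ofConv_injective (AlgHom.ext fun a => ?_)
  show (χ * χ').ofConv ((1 : K) ⊗ₜ[k] a) = (toConv (res χ) * toConv (res χ') : Pt k A K).ofConv a
  rw [AlgHom.convMul_apply, AlgHom.convMul_apply, TensorProduct.comul_tmul, CommSemiring.comul_apply]
  generalize Coalgebra.comul (R := k) a = w
  induction w using TensorProduct.induction_on with
  | zero => simp
  | add p q hp hq => simp only [TensorProduct.tmul_add, map_add, hp, hq]
  | tmul p q => simp [res]

/-- base change of a point with prescribed algebra map -/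
theorem pt_ofBase {Z : Over (Spec (CommRingCat.of k))} (z : Z ⟶ P k A) (y : SP k K ⟶ Z) (χ : Pt K (K ⊗[k] A) K)
    (hy : y ≫ z = toPt (toConv (res χ))) :
    pt ((ofBase θ (e1 k K ≫ y) ≫ (Over.pullback θ).map z) ≫ (Groth.L20.Unirat.bcP k A K).hom) = χ := by
  obtain ⟨χ', hχ'⟩ : ∃ χ', pt ((ofBase θ (e1 k K ≫ y) ≫ (Over.pullback θ).map z) ≫
      (Groth.L20.Unirat.bcP k A K).hom) = χ' := ⟨_, rfl⟩
  rw [hχ']
  apply res_injective
  have e : toPt (toConv (res χ')) = toPt (toConv (res χ)) := by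
    rw [← hy]
    refine Over.OverMorphism.ext ?_
    show Spec.map (CommRingCat.ofHom (res χ').toRingHom) = y.left ≫ z.left
    have h1 : (toPt χ').left = ((ofBase θ (e1 k K ≫ y) ≫ (Over.pullback θ).map z) ≫
        (Groth.L20.Unirat.bcP k A K).hom).left := by
      rw [← hχ', pt, Groth.L08.TorusQuot.toPt_ofPt, Over.comp_left]
      exact Category.id_comp _
    have h2 : Spec.map (CommRingCat.ofHom (res χ').toRingHom) =
        (toPt χ').left ≫ Spec.map (CommRingCat.ofHom (Algebra.TensorProduct.includeRight : A →ₐ[k] K ⊗[k] A).toRingHom) :=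
      (show Spec.map (CommRingCat.ofHom (Algebra.TensorProduct.includeRight : A →ₐ[k] K ⊗[k] A).toRingHom ≫
          CommRingCat.ofHom χ'.ofConv.toRingHom) = _ from Spec.map_comp _ _)
    rw [h2, h1, Groth.L25.NilAction.ofBase_comp, Over.comp_left, Category.assoc]
    have h3 : (Groth.L20.Unirat.bcP k A K).hom.left ≫
        Spec.map (CommRingCat.ofHom (Algebra.TensorProduct.includeRight : A →ₐ[k] K ⊗[k] A).toRingHom) =
        pullback.fst (P k A).hom θ := by
      show ((pullbackSymmetry _ _).hom ≫ (pullbackSpecIso k K A).hom) ≫ _ = _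
      rw [Category.assoc]
      exact (congrArg (_ ≫ ·) (pullbackSpecIso_hom_snd k K A)).trans (pullbackSymmetry_hom_comp_snd _ _)
    rw [h3]
    show pullback.lift _ _ _ ≫ pullback.fst _ _ = _
    rw [pullback.lift_fst]
    show (𝟙 _ ≫ y.left) ≫ z.left = _
    rw [Category.id_comp]
  exact congrArg WithConv.ofConv ((Spec.mapMulEquiv (R := k) (S := A) (T := K)).injective e)

/-- the base change of a morphism into a Hopf spectrum -/
def bT {T : Over (Spec (CommRingCat.of k))} (i : T ⟶ P k A) : Red.bc θ T ⟶ P K (K ⊗[k] A) :=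
  (Over.pullback θ).map i ≫ (Groth.L20.Unirat.bcP k A K).hom

theorem isMaximalTorus_bT [Smooth (P k A).hom] [QuasiCompact (P k A).hom] {T : Over (Spec (CommRingCat.of k))} [GrpObj T] {i : T ⟶ P k A}
    (h : Red.IsMaximalTorus i) : Red.IsMaximalTorus (bT (K := K) i) :=
  Groth.L24.TorusField.isMaximalTorus_comp_iso (Groth.L08.Borel.isMaximalTorus_bc h θ) (Groth.L20.Unirat.bcP k A K)

end baseChange

end Groth.L20.Dense
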